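import Groth.Agent.HilbZeta.K537.CurveData
import Groth.Agent.Ega4B.NagFinal
import Mathlib.RingTheory.Jacobson.Ring

/-!
# The data `(ψ, L)` for a finite type algebra with a reduced one-dimensional localization
-/

set_option autoImplicit false
set_option linter.unusedSectionVars false
universe u

open IsLocalRing

namespace K537.HZ

/-- A field is a Nagata ring. -/
theorem isNagata_field (k : Type u) [Field k] : CAlg.IsNagata k := by
  refine ⟨inferInstance, ?_⟩
  intro p hp L _ _ _ _ hfin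
  have hp' : p = ⊥ := by
    rcases Ideal.eq_bot_or_top p with h | h
    · exact h
    · exact absurd h hp.ne_top
  have hmax : p.IsMaximal := by rw [hp']; exact Ideal.bot_isMaximal
  let : Field (k ⧸ p) := Ideal.Quotient.field p
  have hsurj : Function.Surjective (algebraMap (k ⧸ p) (FractionRing (k ⧸ p))) :=
    IsField.localization_map_bijective (M := nonZeroDivisors (k ⧸ p)) zero_notMem_nonZeroDivisors
      (Field.toIsField (k ⧸ p)) |>.2
  have h1 : Module.Finite (k ⧸ p) (FractionRing (k ⧸ p)) :=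
    Module.Finite.of_surjective (Algebra.linearMap (k ⧸ p) (FractionRing (k ⧸ p))) hsurj
  have h2 : Module.Finite (k ⧸ p) L := Module.Finite.trans (FractionRing (k ⧸ p)) L
  exact Module.Finite.of_injective (Subalgebra.val (integralClosure (k ⧸ p) L)).toLinearMap
    Subtype.val_injective

/-- transfer along a map with dense image. -/
theorem Hyp.comp {k : Type u} [Field k] {s : ℕ} {O A : Type u} [CommRing O] [Algebra k O] [CommRing A]
    [Algebra k A] {ψ : O →ₐ[k] PS s k} {e δ : ℕ} {L : Matrix (Fin δ) (E s e) k} (H : Hyp ψ e L)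
    (ρ : A →ₐ[k] O) (hρ : ∀ (n : ℕ) (r : O), ∃ a : A, ∀ i, PowerSeries.X ^ n ∣ (ψ r - ψ (ρ a)) i) :
    Hyp (ψ.comp ρ) e L where
  L_ker v := by
    rw [H.L_ker v]
    constructor
    · rintro ⟨r, rfl⟩
      obtain ⟨a, ha⟩ := hρ e r
      refine ⟨a, ?_⟩
      have := (PS.tr_eq_zero_iff e).2 ha
      rw [map_sub, sub_eq_zero] at this
      exact this.symm
    · rintro ⟨a, rfl⟩
      exact ⟨ρ a, rfl⟩
  L_surj := H.L_surj
  approx N g hg := by
    obtain ⟨r, hr⟩ := H.approx N g hg
    obtain ⟨a, ha⟩ := hρ N r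
    refine ⟨a, fun i => ?_⟩
    have h1 : (g - ψ (ρ a)) i = (g - ψ r) i + (ψ r - ψ (ρ a)) i := by
      simp only [Pi.sub_apply]; ring
    change PowerSeries.X ^ N ∣ (g - ψ (ρ a)) i
    rw [h1]
    exact dvd_add (hr i) (ha i)

theorem exists_affData (k A : Type u) [Field k] [IsAlgClosed k] [CommRing A] [Algebra k A]
    [Algebra.FiniteType k A] (𝔪 : Ideal A) [h𝔪 : 𝔪.IsMaximal] (O : Type u) [CommRing O] [IsLocalRing O]
    [Algebra A O] [IsLocalization.AtPrime O 𝔪] [IsReduced O] (hdim : ringKrullDim O = 1) (s : ℕ)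
    (hs : Brnch.numBranches O = s) :
    ∃ (e δ : ℕ) (_ : NeZero e) (ψ : A →ₐ[k] PS s k) (L : Matrix (Fin δ) (E s e) k), Hyp ψ e L ∧
      (∀ n : ℕ, ∃ N : ℕ, ∀ r : A, (∀ i, PowerSeries.X ^ N ∣ ψ r i) → r ∈ 𝔪 ^ n) ∧
      ∀ r ∈ 𝔪, ∀ i, PowerSeries.X ∣ ψ r i := by
  let _ : Algebra k O := ((algebraMap A O).comp (algebraMap k A)).toAlgebra
  have hst : IsScalarTower k A O := IsScalarTower.of_algebraMap_eq fun _ => rfl
  have hNA : CAlg.IsNagata A := Groth.Agent.Ega4B.NagFinal.isNagata_of_finiteType (isNagata_field k)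
  have hNO : CAlg.IsNagata O := Groth.Agent.Ega4B.NagBasic.isNagata_localization hNA 𝔪.primeCompl O
  -- powers of the maximal ideal
  have hunder : ∀ n (z : A), algebraMap A O z ∈ maximalIdeal O ^ n ↔ z ∈ 𝔪 ^ n := by
    intro n z
    have := IsLocalization.AtPrime.under_maximalIdeal_pow 𝔪 O n
    rw [← this]
    rfl
  have happrox : ∀ (n : ℕ) (r : O), ∃ a : A, r - algebraMap A O a ∈ maximalIdeal O ^ n := by
    intro n r
    obtain ⟨z', hz'⟩ := (IsLocalization.AtPrime.equivQuotMaximalIdealPow 𝔪 O n).surjective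
      (Ideal.Quotient.mk _ r)
    obtain ⟨z, rfl⟩ := Ideal.Quotient.mk_surjective z'
    rw [IsLocalization.AtPrime.equivQuotMaximalIdealPow_apply_mk] at hz'
    exact ⟨z, Ideal.Quotient.eq.1 hz'.symm⟩
  -- the residue field
  let _ : Field (A ⧸ 𝔪) := Ideal.Quotient.field 𝔪
  have hfin : Module.Finite k (A ⧸ 𝔪) := finite_of_finite_type_of_isJacobsonRing k (A ⧸ 𝔪)
  have hk : Function.Surjective ((residue O).comp (algebraMap k O)) := by
    intro y
    obtain ⟨r, rfl⟩ := residue_surjective y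
    obtain ⟨a, ha⟩ := happrox 1 r
    obtain ⟨c, hc⟩ := (IsAlgClosed.algebraMap_bijective_of_isIntegral (k := k) (K := A ⧸ 𝔪)).2
      (Ideal.Quotient.mk 𝔪 a)
    refine ⟨c, ?_⟩
    have h1 : a - algebraMap k A c ∈ 𝔪 := Ideal.Quotient.eq.1 hc.symm
    have h2 : algebraMap A O (a - algebraMap k A c) ∈ maximalIdeal O ^ 1 :=
      (hunder 1 _).2 (by rwa [pow_one])
    have h3 : algebraMap k O c - r ∈ maximalIdeal O := by
      have h4 : algebraMap k O c - r = -(r - algebraMap A O a) -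
          algebraMap A O (a - algebraMap k A c) := by
        rw [map_sub, ← IsScalarTower.algebraMap_apply k A O]
        ring
      rw [h4]
      rw [pow_one] at ha h2
      exact Ideal.sub_mem _ (neg_mem ha) h2
    rw [RingHom.comp_apply, ← sub_eq_zero, ← map_sub, residue_eq_zero_iff]
    exact h3
  obtain ⟨e, δ, he, ψ, L, H, hsep, hm⟩ := exists_data k O hNO hdim hk s hs
  refine ⟨e, δ, he, ψ.comp (IsScalarTower.toAlgHom k A O), L, H.comp _ ?_, ?_, ?_⟩
  · intro n r
    obtain ⟨a, ha⟩ := happrox n r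
    refine ⟨a, fun i => ?_⟩
    have := dvd_of_mem_pow hm n _ ha i
    rwa [map_sub] at this
  · intro n
    obtain ⟨N, hN⟩ := hsep n
    exact ⟨N, fun r hr => (hunder n r).1 (hN _ hr)⟩
  · intro r hr i
    have h1 := (hunder 1 r).2 (by rwa [pow_one])
    rw [pow_one] at h1
    exact hm _ h1 i

end K537.HZ
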