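import Groth.Agent.HilbZeta.K537.Family
import Mathlib.RingTheory.Spectrum.Prime.FreeLocus
import Mathlib.LinearAlgebra.Dimension.Free

/-!
# The ideals of `C ⊗ O` attached to echelon data, for `ψ : O → ∏ k[[t]]`
-/

set_option autoImplicit false
set_option linter.unusedSectionVars false
universe u v w

open Matrix TensorProduct

namespace K537.HZ

open PS

variable {k : Type u} [Field k] {s : ℕ} {O : Type v} [CommRing O] [Algebra k O] (ψ : O →ₐ[k] PS s k)

/-- coefficientwise base change as an algebra homomorphism. -/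
noncomputable def mapA (s : ℕ) (k : Type u) [CommRing k] (C : Type w) [CommRing C] [Algebra k C] :
    PS s k →ₐ[k] PS s C :=
  { mapP (algebraMap k C) with
    commutes' := by
      intro c
      ext i n
      change PowerSeries.coeff n (PowerSeries.map (algebraMap k C) (algebraMap k (PowerSeries k) c)) =
        PowerSeries.coeff n (algebraMap k (PowerSeries C) c)
      rw [PowerSeries.coeff_map, PowerSeries.algebraMap_apply, PowerSeries.algebraMap_apply,
        PowerSeries.coeff_C, PowerSeries.coeff_C]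
      split_ifs <;> simp }

theorem mapA_apply (C : Type w) [CommRing C] [Algebra k C] (f : PS s k) :
    mapA s k C f = mapP (algebraMap k C) f := rfl

/-- the base change of `ψ`. -/
noncomputable def psiC (C : Type w) [CommRing C] [Algebra k C] : C ⊗[k] O →ₐ[C] PS s C :=
  Algebra.TensorProduct.lift (Algebra.ofId C _) ((mapA s k C).comp ψ) (fun _ _ => Commute.all _ _)

theorem psiC_tmul (C : Type w) [CommRing C] [Algebra k C] (c : C) (r : O) :
    psiC ψ C (c ⊗ₜ r) = c • mapP (algebraMap k C) (ψ r) := by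
  rw [psiC, Algebra.TensorProduct.lift_tmul, Algebra.ofId_apply, ← Algebra.smul_def]
  rfl

/-- hypotheses on `ψ`: `L` cuts out the truncations of the image, which contains all tuples of order `≥ e`
up to any order. -/
structure Hyp (e : ℕ) {δ : ℕ} (L : Matrix (Fin δ) (E s e) k) : Prop where
  L_ker : ∀ v, L *ᵥ v = 0 ↔ ∃ r, tr e (ψ r) = v
  L_surj : ∀ w, ∃ v, L *ᵥ v = w
  approx : ∀ (N : ℕ) (g : PS s k), (∀ i, PowerSeries.X ^ e ∣ g i) →
    ∃ r, ∀ i, PowerSeries.X ^ N ∣ (g - ψ r : PS s k) i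

variable {ψ} {e δ : ℕ} {L : Matrix (Fin δ) (E s e) k} (H : Hyp ψ e L)
  {C : Type w} [CommRing C] [Algebra k C]

include H

theorem Hyp.approxC₁ (N : ℕ) (g : PS s C) (hg : ∀ i, PowerSeries.X ^ e ∣ g i) :
    ∃ x : C ⊗[k] O, ∀ i, PowerSeries.X ^ N ∣ (g - psiC ψ C x : PS s C) i := by
  have h1 : ∀ y : E s N, ∃ r : O, e ≤ (ofLex y).2 →
      ∀ i, PowerSeries.X ^ N ∣ (mono N y - ψ r : PS s k) i := by
    intro y
    by_cases hy : e ≤ (ofLex y).2
    · obtain ⟨r, hr⟩ := H.approx N (mono N y) (by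
        intro i
        rw [mono]
        by_cases hi : i = (ofLex y).1
        · subst hi
          rw [Pi.single_eq_same]
          exact pow_dvd_pow _ hy
        · rw [Pi.single_eq_of_ne hi]
          exact dvd_zero _)
      exact ⟨r, fun _ => hr⟩
    · exact ⟨0, fun h => absurd h hy⟩
  choose r hr using h1
  refine ⟨∑ y, (tr N g y) ⊗ₜ r y, fun i => ?_⟩
  rw [map_sum]
  have h2 : g - ∑ y, psiC ψ C ((tr N g y) ⊗ₜ r y) = (g - ∑ y, tr N g y • mono N y) +
      ∑ y, tr N g y • (mono N y - mapP (algebraMap k C) (ψ (r y))) := by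
    simp only [psiC_tmul, smul_sub, Finset.sum_sub_distrib]
    ring
  rw [h2, Pi.add_apply]
  refine dvd_add (dvd_sub_sum_mono N g i) ?_
  rw [Finset.sum_apply]
  refine Finset.dvd_sum fun y _ => ?_
  by_cases hy : e ≤ (ofLex y).2
  · have h3 := hr y hy i
    rw [Pi.smul_apply, PowerSeries.smul_eq_C_mul]
    refine Dvd.dvd.mul_left ?_ _
    rw [← mapP_mono N (algebraMap k C) y, ← map_sub, mapP_apply]
    have := map_dvd (PowerSeries.map (algebraMap k C)) h3
    rwa [map_pow, PowerSeries.map_X] at this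
  · have h4 : tr N g y = 0 := by
      rw [tr_apply]
      exact PowerSeries.X_pow_dvd_iff.1 (hg _) _ (not_le.1 hy)
    rw [h4, zero_smul]
    exact dvd_zero _

theorem Hyp.psi_mem_ker (x : C ⊗[k] O) : Dat.bcM C L *ᵥ (tr e (psiC ψ C x)) = 0 := by
  induction x using TensorProduct.induction_on with
  | zero => simp
  | add x y hx hy => rw [map_add, map_add, Matrix.mulVec_add, hx, hy, add_zero]
  | tmul c r =>
    rw [psiC_tmul, map_smul, Matrix.mulVec_smul, tr_mapP]
    have h1 := (H.L_ker (tr e (ψ r))).2 ⟨r, rfl⟩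
    have h2 : Dat.bcM C L *ᵥ (fun x => algebraMap k C (tr e (ψ r) x)) = 0 := by
      ext l
      have := Dat.map_bcM_mulVec (Algebra.ofId k C) L (tr e (ψ r)) l
      rw [show (Dat.bcM k L) = L from by ext; simp [Dat.bcM], h1] at this
      exact this.symm.trans (map_zero _)
    rw [h2, smul_zero]

theorem Hyp.exists_psiC {v : E s e → C} (hv : Dat.bcM C L *ᵥ v = 0) :
    ∃ x : C ⊗[k] O, tr e (psiC ψ C x) = v := by
  classical
  choose μ hμ using H.L_surj
  -- the section as a matrix
  let m : Matrix (E s e) (Fin δ) k := fun x l => μ (Pi.single l 1) x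
  have hLm : L * m = 1 := by
    ext l l'
    rw [Matrix.mul_apply]
    have := congrFun (hμ (Pi.single l' 1)) l
    rw [mulVec, dotProduct] at this
    rw [Matrix.one_apply]
    rw [Pi.single_apply] at this
    exact this
  have h1 : ∀ y : E s e, ∃ r : O, tr e (ψ r) = (1 - m * L) *ᵥ (Pi.single y 1) := by
    intro y
    apply (H.L_ker _).1
    rw [Matrix.mulVec_mulVec, Matrix.mul_sub, Matrix.mul_one, ← Matrix.mul_assoc, hLm,
      Matrix.one_mul, sub_self, Matrix.zero_mulVec]
  choose r hr using h1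
  refine ⟨∑ y, v y ⊗ₜ r y, ?_⟩
  have h2 : ∀ y, tr e (psiC ψ C (v y ⊗ₜ r y)) = v y • (Dat.bcM C (1 - m * L) *ᵥ (Pi.single y 1)) := by
    intro y
    rw [psiC_tmul, map_smul, tr_mapP, hr]
    congr 1
    ext x
    have := Dat.map_bcM_mulVec (Algebra.ofId k C) (1 - m * L) (Pi.single y 1) x
    rw [show (Dat.bcM k (1 - m * L)) = (1 - m * L) from by ext; simp [Dat.bcM]] at this
    refine (show _ = _ from this).trans ?_
    congr 1
    congr 1
    ext z
    rw [Pi.single_apply, Pi.single_apply]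
    split_ifs <;> simp
  rw [map_sum, map_sum, Finset.sum_congr rfl fun y _ => h2 y]
  have h3 : ∑ y, v y • (Dat.bcM C (1 - m * L) *ᵥ (Pi.single y 1)) = Dat.bcM C (1 - m * L) *ᵥ v := by
    simp_rw [← Matrix.mulVec_smul]
    rw [← Matrix.mulVec_sum]
    congr 1
    ext z
    rw [Finset.sum_apply]
    simp only [Pi.smul_apply, smul_eq_mul, Pi.single_apply, mul_ite, mul_one, mul_zero]
    rw [Finset.sum_ite_eq]
    simp
  rw [h3]
  have h4 : Dat.bcM C (1 - m * L) = 1 - Dat.bcM C m * Dat.bcM C L := by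
    ext x y
    simp only [Dat.bcM, Matrix.map_apply, Matrix.sub_apply, map_sub, Matrix.mul_apply, map_sum,
      map_mul, Matrix.one_apply]
    split_ifs <;> simp
  rw [h4, Matrix.sub_mulVec, Matrix.one_mulVec, ← Matrix.mulVec_mulVec, hv, Matrix.mulVec_zero,
    sub_zero]

theorem Hyp.approxC (N : ℕ) (f : PS s C) (hf : Dat.bcM C L *ᵥ (tr e f) = 0) :
    ∃ x : C ⊗[k] O, ∀ i, PowerSeries.X ^ N ∣ (f - psiC ψ C x : PS s C) i := by
  obtain ⟨x₀, hx₀⟩ := H.exists_psiC hf
  obtain ⟨x₁, hx₁⟩ := H.approxC₁ (C := C) N (f - psiC ψ C x₀) (by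
    apply (tr_eq_zero_iff e).1
    rw [map_sub, hx₀, sub_self])
  refine ⟨x₀ + x₁, fun i => ?_⟩
  rw [map_add, ← sub_sub]
  exact hx₁ i

end K537.HZ
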