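import Groth.Agent.HilbZeta.K537.DvrChart
import Groth.Agent.Variety.K421.DeltaBranch
import Mathlib.RingTheory.Ideal.Quotient.Operations
import Mathlib.FieldTheory.IsAlgClosed.Basic

/-!
# Expansions along the branches of a reduced one-dimensional local ring
-/

set_option autoImplicit false
set_option linter.unusedSectionVars false
universe u

open IsLocalRing nonZeroDivisors K421 K421.NormCl

namespace K537.HZ

variable (k A : Type u) [Field k] [IsAlgClosed k] [CommRing A] [IsLocalRing A] [IsReduced A]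
  [IsNoetherianRing A] [Algebra k A] [Module.Finite A (Cl A)]

omit [IsReduced A] [IsNoetherianRing A] [Module.Finite A (Cl A)] in
theorem exists_sub_mem (hk : Function.Surjective ((residue A).comp (algebraMap k A)))
    (M : Ideal (Cl A)) [hM : M.IsMaximal] (z : Cl A) : ∃ c : k, z - algebraMap k (Cl A) c ∈ M := by
  let _ : Field (Cl A ⧸ M) := Ideal.Quotient.field M
  let e : k ≃+* ResidueField A := RingEquiv.ofBijective _ ⟨RingHom.injective _, hk⟩
  let σ : A →+* k := e.symm.toRingHom.comp (residue A)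
  have hσ : ((algebraMap k (Cl A ⧸ M)).comp σ) = algebraMap A (Cl A ⧸ M) := by
    ext a
    have h1 : residue A (algebraMap k A (σ a)) = residue A a := e.apply_symm_apply (residue A a)
    have h2 : a - algebraMap k A (σ a) ∈ maximalIdeal A := by
      rw [← residue_eq_zero_iff, map_sub, h1, sub_self]
    rw [← comap_eq_maximalIdeal A M, Ideal.mem_comap, map_sub] at h2
    have h3 := (Ideal.Quotient.eq.2 h2)
    exact h3.symm
  have hint : (algebraMap A (Cl A ⧸ M)).IsIntegral := by
    have h1 : Algebra.IsIntegral A (Cl A ⧸ M) := by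
      have : Algebra.IsIntegral A (Cl A) := inferInstance
      exact Algebra.IsIntegral.of_surjective (IsScalarTower.toAlgHom A (Cl A) (Cl A ⧸ M))
        Ideal.Quotient.mk_surjective
    exact h1.isIntegral
  rw [← hσ] at hint
  have hint2 : Algebra.IsIntegral k (Cl A ⧸ M) := ⟨hint.tower_top _ _⟩
  obtain ⟨c, hc⟩ := (IsAlgClosed.algebraMap_bijective_of_isIntegral (k := k) (K := Cl A ⧸ M)).2
    (Ideal.Quotient.mk M z)
  exact ⟨c, Ideal.Quotient.eq.1 hc.symm⟩

theorem exists_chart (hk : Function.Surjective ((residue A).comp (algebraMap k A)))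
    (hdim : ringKrullDim A = 1) (M : MaximalSpectrum (Cl A)) :
    ∃ χ : Cl A →ₐ[k] PowerSeries k,
      (∀ (z : Cl A) (n : ℕ), PowerSeries.X ^ n ∣ χ z ↔ z ∈ M.asIdeal ^ n) ∧
      ∀ (g : PowerSeries k) (n : ℕ), ∃ z : Cl A, PowerSeries.X ^ n ∣ g - χ z := by
  have hM := M.isMaximal
  obtain ⟨hdom, hdvr⟩ := isDiscreteValuationRing_cl A hdim M.asIdeal
  let B := Localization.AtPrime M.asIdeal
  have hunder : ∀ n (z : Cl A), algebraMap (Cl A) B z ∈ maximalIdeal B ^ n ↔ z ∈ M.asIdeal ^ n := by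
    intro n z
    have := IsLocalization.AtPrime.under_maximalIdeal_pow M.asIdeal B n
    rw [← this]
    rfl
  have hres : Function.Surjective ((residue B).comp (algebraMap k B)) := by
    intro y
    obtain ⟨b, rfl⟩ := residue_surjective y
    obtain ⟨z', hz'⟩ := (IsLocalization.AtPrime.equivQuotMaximalIdealPow M.asIdeal B 1).surjective
      (Ideal.Quotient.mk _ b)
    obtain ⟨z, rfl⟩ := Ideal.Quotient.mk_surjective z'
    rw [IsLocalization.AtPrime.equivQuotMaximalIdealPow_apply_mk, Ideal.Quotient.eq, pow_one] at hz'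
    obtain ⟨c, hc⟩ := exists_sub_mem k A hk M.asIdeal z
    refine ⟨c, ?_⟩
    have h2 : algebraMap (Cl A) B (z - algebraMap k (Cl A) c) ∈ maximalIdeal B := by
      have := (hunder 1 (z - algebraMap k (Cl A) c)).2 (by rwa [pow_one])
      rwa [pow_one] at this
    have h3 : algebraMap k B c - b ∈ maximalIdeal B := by
      have h4 : algebraMap k B c - b = (algebraMap (Cl A) B z - b) -
          algebraMap (Cl A) B (z - algebraMap k (Cl A) c) := by
        rw [map_sub, ← IsScalarTower.algebraMap_apply k (Cl A) B]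
        ring
      rw [h4]
      exact Ideal.sub_mem _ hz' h2
    rw [RingHom.comp_apply, ← sub_eq_zero, ← map_sub, residue_eq_zero_iff]
    exact h3
  obtain ⟨χ, h1, h2⟩ := exists_dvrChart k B hres
  refine ⟨χ.comp (IsScalarTower.toAlgHom k (Cl A) B), ?_, ?_⟩
  · intro z n
    rw [← hunder n z]
    exact h1 _ n
  · intro g n
    obtain ⟨b, hb⟩ := h2 g n
    obtain ⟨z', hz'⟩ := (IsLocalization.AtPrime.equivQuotMaximalIdealPow M.asIdeal B n).surjective
      (Ideal.Quotient.mk _ b)
    obtain ⟨z, rfl⟩ := Ideal.Quotient.mk_surjective z'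
    rw [IsLocalization.AtPrime.equivQuotMaximalIdealPow_apply_mk, Ideal.Quotient.eq] at hz'
    refine ⟨z, ?_⟩
    have h5 : PowerSeries.X ^ n ∣ χ (algebraMap (Cl A) B z) - χ b := by
      rw [← map_sub]
      exact (h1 _ n).2 hz'
    have h6 : g - (χ.comp (IsScalarTower.toAlgHom k (Cl A) B)) z =
        (g - χ b) - (χ (algebraMap (Cl A) B z) - χ b) := by
      change g - χ (algebraMap (Cl A) B z) = _
      ring
    rw [h6]
    exact dvd_sub hb h5

omit [IsAlgClosed k] [IsReduced A] [Algebra k A] in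
variable {A} in
theorem isMaximal_of_mem (hdim : ringKrullDim A = 1) {f : A} (hf : f ∈ A⁰)
    (P : Ideal (Cl A)) [hP : P.IsPrime] (hfP : algebraMap A (Cl A) f ∈ P) : P.IsMaximal := by
  have h1 : (P.comap (algebraMap A (Cl A))).IsPrime := inferInstance
  have h2 : P.comap (algebraMap A (Cl A)) = maximalIdeal A := by
    rcases DimOne.mem_minimalPrimes_or hdim _ h1 with h | h
    · exact absurd hfP (DimOne.notMem_of_mem_nonZeroDivisors hf _ h)
    · exact h
  have h3 : (P.comap (algebraMap A (Cl A))).IsMaximal := by rw [h2]; infer_instance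
  exact Ideal.isMaximal_of_isIntegral_of_isMaximal_comap P h3

/-- **Expansions along the branches.** -/
theorem exists_branches (hk : Function.Surjective ((residue A).comp (algebraMap k A)))
    (hdim : ringKrullDim A = 1) (s : ℕ) (hs : ENat.card (MaximalSpectrum (Cl A)) = s) :
    ∃ (e : ℕ) (ψ : A →ₐ[k] (Fin s → PowerSeries k)), 0 < e ∧
      (∀ (N : ℕ) (g : Fin s → PowerSeries k), (∀ i, PowerSeries.X ^ e ∣ g i) →
        ∃ r, ∀ i, PowerSeries.X ^ N ∣ (g - ψ r) i) ∧
      (∀ n : ℕ, ∃ N : ℕ, ∀ r : A, (∀ i, PowerSeries.X ^ N ∣ ψ r i) → r ∈ maximalIdeal A ^ n) ∧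
      ∀ r ∈ maximalIdeal A, ∀ i, PowerSeries.X ∣ ψ r i := by
  classical
  have hfinM : Finite (MaximalSpectrum (Cl A)) := DeltaBranch.finite_maximalSpectrum A (Cl A)
  have hcard : Nat.card (MaximalSpectrum (Cl A)) = s := by
    rw [ENat.card_eq_coe_natCard] at hs
    exact_mod_cast hs
  let ε : Fin s ≃ MaximalSpectrum (Cl A) := (Finite.equivFinOfCardEq hcard).symm
  have hNoeth := isNoetherianRing_cl A
  choose χ hχ1 hχ2 using fun i : Fin s => exists_chart k A hk hdim (ε i)
  let ψ : A →ₐ[k] (Fin s → PowerSeries k) :=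
    AlgHom.pi fun i => (χ i).comp (IsScalarTower.toAlgHom k A (Cl A))
  have hψ : ∀ r i, ψ r i = χ i (algebraMap A (Cl A) r) := fun r i => rfl
  let J : Ideal (Cl A) := ∏ i, (ε i).asIdeal
  have hcop : ∀ n : ℕ, Pairwise fun i j => IsCoprime ((ε i).asIdeal ^ n) ((ε j).asIdeal ^ n) := by
    intro n i j hij
    apply IsCoprime.pow
    rw [Ideal.isCoprime_iff_sup_eq]
    exact Ideal.IsMaximal.coprime_of_ne (ε i).isMaximal (ε j).isMaximal
      (fun h => hij (ε.injective (MaximalSpectrum.ext h)))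
  have hJpow : ∀ (n : ℕ) (z : Cl A), (∀ i, z ∈ (ε i).asIdeal ^ n) → z ∈ J ^ n := by
    intro n z hz
    have h1 : J ^ n = ∏ i, (ε i).asIdeal ^ n := by rw [Finset.prod_pow]
    rw [h1, Ideal.prod_eq_iInf_of_pairwise_isCoprime (fun i _ j _ hij => hcop n hij)]
    rw [Ideal.mem_iInf]
    intro i
    simpa using hz i
  have hJle : ∀ (I : Ideal (Cl A)), (∀ P : Ideal (Cl A), P.IsPrime → I ≤ P → P.IsMaximal) →
      ∃ q : ℕ, J ^ q ≤ I := by
    intro I hI
    have h1 : J ≤ I.radical := by
      rw [Ideal.radical_eq_sInf]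
      refine le_sInf ?_
      rintro P ⟨hIP, hP⟩
      have hPm := hI P hP hIP
      have h2 : ∏ i, (ε i).asIdeal ≤ (ε (ε.symm ⟨P, hPm⟩)).asIdeal :=
        Ideal.prod_le_inf.trans (Finset.inf_le (Finset.mem_univ _))
      rw [Equiv.apply_symm_apply] at h2
      exact h2
    obtain ⟨q, hq⟩ := Ideal.exists_radical_pow_le_of_fg I (IsNoetherian.noetherian _)
    exact ⟨q, (Ideal.pow_right_mono h1 q).trans hq⟩
  obtain ⟨f, hf, hfA⟩ := exists_denominator A
  obtain ⟨e₀, he₀⟩ := hJle (Ideal.span {algebraMap A (Cl A) f}) (fun P hP hle =>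
    isMaximal_of_mem hdim hf P (hle (Ideal.subset_span rfl)))
  obtain ⟨q, hq⟩ := hJle ((maximalIdeal A).map (algebraMap A (Cl A))) (fun P hP hle => by
    obtain ⟨g, hgm, hg⟩ := DimOne.exists_mem_forall_notMem (A := A) hdim
    exact isMaximal_of_mem hdim (DimOne.mem_nonZeroDivisors_of_isReduced hg) P
      (hle (Ideal.mem_map_of_mem _ hgm)))
  have he : J ^ (e₀ + 1) ≤ Ideal.span {algebraMap A (Cl A) f} :=
    (Ideal.pow_le_pow_right (Nat.le_succ _)).trans he₀
  have hmem : ∀ z : Cl A, (∀ i, PowerSeries.X ^ (e₀ + 1) ∣ χ i z) → ∃ a : A, algebraMap A (Cl A) a = z := by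
    intro z hz
    have h1 := he (hJpow (e₀ + 1) z fun i => (hχ1 i z _).1 (hz i))
    rw [Ideal.mem_span_singleton] at h1
    obtain ⟨w, rfl⟩ := h1
    obtain ⟨a, ha⟩ := hfA w
    exact ⟨a, by rw [ha, Algebra.smul_def]⟩
  refine ⟨e₀ + 1, ψ, Nat.succ_pos _, ?_, ?_, ?_⟩
  · intro N g hg
    choose z hz using fun i => hχ2 i (g i) (max N (e₀ + 1))
    obtain ⟨w, hw⟩ := Ideal.pi_quotient_surjective (hcop (max N (e₀ + 1)))
      (fun i => Ideal.Quotient.mk _ (z i))
    have hw' : ∀ i, w - z i ∈ (ε i).asIdeal ^ (max N (e₀ + 1)) := fun i => Ideal.Quotient.eq.1 (hw i)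
    have h1 : ∀ i, PowerSeries.X ^ (max N (e₀ + 1)) ∣ g i - χ i w := by
      intro i
      have h2 := (hχ1 i _ _).2 (hw' i)
      rw [map_sub] at h2
      have h3 : g i - χ i w = (g i - χ i (z i)) - (χ i w - χ i (z i)) := by ring
      rw [h3]
      exact dvd_sub (hz i) h2
    obtain ⟨a, rfl⟩ := hmem w fun i => by
      have h2 := dvd_sub (hg i) ((pow_dvd_pow _ (le_max_right N (e₀ + 1))).trans (h1 i))
      rwa [sub_sub_cancel] at h2
    exact ⟨a, fun i => (pow_dvd_pow _ (le_max_left _ _)).trans (h1 i)⟩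
  · intro n
    refine ⟨q * n + (e₀ + 1), fun r hr => ?_⟩
    have h1 : algebraMap A (Cl A) r ∈ J ^ (q * n + (e₀ + 1)) :=
      hJpow _ _ fun i => (hχ1 i _ _).1 (hr i)
    have h2 : J ^ (q * n + (e₀ + 1)) ≤
        ((maximalIdeal A ^ n).map (algebraMap A (Cl A))) * Ideal.span {algebraMap A (Cl A) f} := by
      rw [pow_add, pow_mul, Ideal.map_pow]
      exact Ideal.mul_mono (Ideal.pow_right_mono hq n) he
    have h3 := h2 h1
    rw [Ideal.mem_mul_span_singleton] at h3
    obtain ⟨y, hy, hyr⟩ := h3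
    have key : ∀ y ∈ (maximalIdeal A ^ n).map (algebraMap A (Cl A)), ∃ a ∈ maximalIdeal A ^ n,
        algebraMap A (Cl A) a = y * algebraMap A (Cl A) f := by
      intro y hy
      rw [Ideal.map] at hy
      induction hy using Submodule.span_induction with
      | mem x hx =>
        obtain ⟨a, ha, rfl⟩ := hx
        exact ⟨a * f, Ideal.mul_mem_right _ _ ha, map_mul _ _ _⟩
      | zero => exact ⟨0, Ideal.zero_mem _, by simp⟩
      | add x y _ _ hx hy =>
        obtain ⟨a, ha, hax⟩ := hx
        obtain ⟨b, hb, hby⟩ := hy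
        exact ⟨a + b, Ideal.add_mem _ ha hb, by rw [map_add, hax, hby, add_mul]⟩
      | smul c x hx' hx =>
        -- need to multiply inside
        clear hx
        revert c
        induction hx' using Submodule.span_induction with
        | mem x hx =>
          obtain ⟨a, ha, rfl⟩ := hx
          intro c
          obtain ⟨b, hb⟩ := hfA c
          refine ⟨a * b, Ideal.mul_mem_right _ _ ha, ?_⟩
          rw [map_mul, hb, Algebra.smul_def, smul_eq_mul]
          ring
        | zero => intro c; exact ⟨0, Ideal.zero_mem _, by simp⟩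
        | add x y _ _ hx hy =>
          intro c
          obtain ⟨a, ha, hax⟩ := hx c
          obtain ⟨b, hb, hby⟩ := hy c
          exact ⟨a + b, Ideal.add_mem _ ha hb, by rw [map_add, hax, hby, smul_add, add_mul]⟩
        | smul d x _ hx =>
          intro c
          obtain ⟨a, ha, hax⟩ := hx (c * d)
          exact ⟨a, ha, by rw [hax, mul_smul]⟩
    obtain ⟨a, ha, hay⟩ := key y hy
    have h4 : algebraMap A (Cl A) a = algebraMap A (Cl A) r := hay.trans hyr
    rwa [← injective_cl A h4]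
  · intro r hr i
    have hMi := (ε i).isMaximal
    have h1 : algebraMap A (Cl A) r ∈ (ε i).asIdeal ^ 1 := by
      rw [pow_one]
      rw [← comap_eq_maximalIdeal A (ε i).asIdeal] at hr
      exact hr
    have h2 := (hχ1 i _ 1).2 h1
    rwa [pow_one] at h2

end K537.HZ
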