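import Groth.Agent.HilbZeta.K537.FamIdeal
import Mathlib.RingTheory.PowerSeries.Inverse
import Mathlib.LinearAlgebra.Basis.VectorSpace
import Mathlib.LinearAlgebra.TensorProduct.Basis

/-!
# Ideals over a field and echelon data
-/

set_option autoImplicit false
set_option linter.unusedSectionVars false
universe u v w

open Matrix TensorProduct

namespace K537.HZ

open PS

variable {k : Type u} [Field k] {s : ℕ} {O : Type v} [CommRing O] [Algebra k O] {ψ : O →ₐ[k] PS s k}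

/-- an element of `K ⊗ O` whose image is divisible by `X^N` is a combination of such elements of `O`. -/
theorem mem_of_psiC_dvd {K : Type w} [Field K] [Algebra k K] (N : ℕ) (I : Ideal (K ⊗[k] O))
    (hI : ∀ r : O, (∀ i, PowerSeries.X ^ N ∣ ψ r i) → (1 : K) ⊗ₜ[k] r ∈ I) (x : K ⊗[k] O)
    (hx : ∀ i, PowerSeries.X ^ N ∣ psiC ψ K x i) : x ∈ I := by
  classical
  let b := Module.Basis.ofVectorSpace k K
  obtain ⟨c, hc⟩ : ∃ c : (Module.Basis.ofVectorSpaceIndex k K) →₀ O, x = c.sum fun i r => b i ⊗ₜ r := by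
    refine ⟨TensorProduct.equivFinsuppOfBasisLeft b x, ?_⟩
    conv_lhs => rw [← (TensorProduct.equivFinsuppOfBasisLeft b).symm_apply_apply x]
    rw [TensorProduct.equivFinsuppOfBasisLeft_symm_apply]
  have h1 : ∀ j, ∀ i, PowerSeries.X ^ N ∣ ψ (c j) i := by
    intro j i
    rw [PowerSeries.X_pow_dvd_iff]
    intro m hm
    have h2 : PowerSeries.coeff m (psiC ψ K x i) = 0 := PowerSeries.X_pow_dvd_iff.1 (hx i) m hm
    rw [hc, Finsupp.sum, map_sum, Finset.sum_apply, map_sum] at h2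
    have h3 : ∑ l ∈ c.support, (PowerSeries.coeff m (ψ (c l) i)) • b l = 0 := by
      rw [← h2]
      refine Finset.sum_congr rfl fun l _ => ?_
      rw [psiC_tmul, Pi.smul_apply, map_smul, mapP_apply, PowerSeries.coeff_map, smul_eq_mul,
        Algebra.smul_def, mul_comm]
    by_cases hj : j ∈ c.support
    · exact linearIndependent_iff'.1 b.linearIndependent c.support _ h3 j hj
    · rw [Finsupp.notMem_support_iff.1 hj, map_zero]
      simp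
  rw [hc]
  refine Ideal.sum_mem _ fun j _ => ?_
  have : (b j) ⊗ₜ[k] c j = (b j ⊗ₜ 1) * ((1 : K) ⊗ₜ c j) := by
    rw [Algebra.TensorProduct.tmul_mul_tmul, mul_one, one_mul]
  change (b j) ⊗ₜ[k] c j ∈ I
  rw [this]
  exact I.mul_mem_left _ (hI _ (h1 j))

theorem dvd_of_mem_pow {𝔫 : Ideal O} (h𝔫 : ∀ r ∈ 𝔫, ∀ i, PowerSeries.X ∣ ψ r i) (n : ℕ) :
    ∀ r ∈ 𝔫 ^ n, ∀ i, PowerSeries.X ^ n ∣ ψ r i := by
  intro r hr i
  let χ : O →+* PowerSeries k := (Pi.evalRingHom _ i).comp ψ.toRingHom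
  have h1 : 𝔫 ≤ (Ideal.span {(PowerSeries.X : PowerSeries k)}).comap χ := by
    intro r hr
    rw [Ideal.mem_comap, Ideal.mem_span_singleton]
    exact h𝔫 r hr i
  have h3 : χ r ∈ (Ideal.span {(PowerSeries.X : PowerSeries k)}) ^ n := by
    have h4 : Ideal.map χ (𝔫 ^ n) ≤ (Ideal.span {(PowerSeries.X : PowerSeries k)}) ^ n := by
      rw [Ideal.map_pow]
      exact Ideal.pow_right_mono (Ideal.map_le_iff_le_comap.2 h1) n
    exact h4 (Ideal.mem_map_of_mem χ hr)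
  rw [Ideal.span_singleton_pow, Ideal.mem_span_singleton] at h3
  exact h3

section main

variable {e δ : ℕ} {L : Matrix (Fin δ) (E s e) k} (H : Hyp ψ e L)
  {K : Type w} [Field K] [Algebra k K] (𝔧 : Ideal (K ⊗[k] O)) (N : ℕ)

/-- the completion of `𝔧`. -/
def JN (ψ : O →ₐ[k] PS s k) (𝔧 : Ideal (K ⊗[k] O)) (N : ℕ) : Submodule K (PS s K) where
  carrier := {f | ∃ x ∈ 𝔧, ∀ i, PowerSeries.X ^ N ∣ (f - psiC ψ K x : PS s K) i}
  zero_mem' := ⟨0, 𝔧.zero_mem, fun i => by simp⟩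
  add_mem' := by
    rintro f f' ⟨x, hx, h⟩ ⟨x', hx', h'⟩
    refine ⟨x + x', 𝔧.add_mem hx hx', fun i => ?_⟩
    rw [map_add, add_sub_add_comm]
    exact dvd_add (h i) (h' i)
  smul_mem' := by
    rintro c f ⟨x, hx, h⟩
    refine ⟨c • x, ?_, fun i => ?_⟩
    · rw [Algebra.smul_def]
      exact 𝔧.mul_mem_left _ hx
    · rw [map_smul, ← smul_sub, Pi.smul_apply, PowerSeries.smul_eq_C_mul]
      exact Dvd.dvd.mul_left (h i) _

variable {𝔧 N}

theorem psiC_mem_JN (hN : ∀ r, (∀ i, PowerSeries.X ^ N ∣ ψ r i) → (1 : K) ⊗ₜ[k] r ∈ 𝔧)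
    {x : K ⊗[k] O} : psiC ψ K x ∈ JN ψ 𝔧 N ↔ x ∈ 𝔧 := by
  constructor
  · rintro ⟨x', hx', h⟩
    have h1 : x - x' ∈ 𝔧 := mem_of_psiC_dvd N 𝔧 hN _ (fun i => by rw [map_sub]; exact h i)
    have := 𝔧.add_mem h1 hx'
    rwa [sub_add_cancel] at this
  · intro hx
    exact ⟨x, hx, fun i => by simp⟩

theorem dvd_mem_JN {f : PS s K} (h : ∀ i, PowerSeries.X ^ N ∣ f i) : f ∈ JN ψ 𝔧 N :=
  ⟨0, 𝔧.zero_mem, fun i => by simpa using h i⟩

theorem psiC_mul_mem_JN {f : PS s K} (hf : f ∈ JN ψ 𝔧 N) (y : K ⊗[k] O) :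
    psiC ψ K y * f ∈ JN ψ 𝔧 N := by
  obtain ⟨x, hx, h⟩ := hf
  refine ⟨y * x, 𝔧.mul_mem_left _ hx, fun i => ?_⟩
  rw [map_mul, ← mul_sub, Pi.mul_apply]
  exact Dvd.dvd.mul_left (h i) _

include H in
theorem cond_mul_mem_JN {f : PS s K} (hf : f ∈ JN ψ 𝔧 N) {g : PS s K}
    (hg : ∀ i, PowerSeries.X ^ e ∣ g i) : g * f ∈ JN ψ 𝔧 N := by
  obtain ⟨y, hy⟩ := H.approxC₁ (C := K) N g hg
  have h1 : g * f = psiC ψ K y * f + (g - psiC ψ K y) * f := by ring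
  rw [h1]
  refine Submodule.add_mem _ (psiC_mul_mem_JN hf y) (dvd_mem_JN fun i => ?_)
  rw [Pi.mul_apply]
  exact Dvd.dvd.mul_right (hy i) _

/-- some element of `JN` has non zero `n`-th coefficient at the branch `i`. -/
theorem exists_coeff_ne (𝔧 : Ideal (K ⊗[k] O)) (N : ℕ) (i : Fin s) :
    ∃ n, ∃ f ∈ JN ψ 𝔧 N, PowerSeries.coeff n (f i) ≠ 0 := by
  refine ⟨N, Pi.single i (PowerSeries.X ^ N), dvd_mem_JN fun j => ?_, ?_⟩
  · by_cases h : j = i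
    · subst h; rw [Pi.single_eq_same]
    · rw [Pi.single_eq_of_ne h]; exact dvd_zero _
  · rw [Pi.single_eq_same, PowerSeries.coeff_X_pow_self]
    exact one_ne_zero

open Classical in
/-- the order vector. -/
noncomputable def ord (ψ : O →ₐ[k] PS s k) (𝔧 : Ideal (K ⊗[k] O)) (N : ℕ) (i : Fin s) : ℕ :=
  Nat.find (exists_coeff_ne (ψ := ψ) 𝔧 N i)

open Classical in
theorem ord_spec (i : Fin s) : ∃ f ∈ JN ψ 𝔧 N, PowerSeries.coeff (ord ψ 𝔧 N i) (f i) ≠ 0 :=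
  Nat.find_spec (exists_coeff_ne (ψ := ψ) 𝔧 N i)

open Classical in
theorem ord_dvd {f : PS s K} (hf : f ∈ JN ψ 𝔧 N) (i : Fin s) :
    PowerSeries.X ^ (ord ψ 𝔧 N i) ∣ f i := by
  rw [PowerSeries.X_pow_dvd_iff]
  intro m hm
  by_contra hc
  exact Nat.find_min (exists_coeff_ne (ψ := ψ) 𝔧 N i) hm ⟨f, hf, hc⟩

theorem low_eq_zero {f : PS s K} (hf : f ∈ JN ψ 𝔧 N) : low (ord ψ 𝔧 N) f = 0 := by
  ext x
  exact PowerSeries.X_pow_dvd_iff.1 (ord_dvd hf x.1) _ x.2.2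

include H in
theorem mem_JN_of_dvd {f : PS s K} (hf : ∀ i, PowerSeries.X ^ (ord ψ 𝔧 N i + e) ∣ f i) :
    f ∈ JN ψ 𝔧 N := by
  classical
  have h1 : f = ∑ i, Pi.single i (f i) := (Finset.univ_sum_single f).symm
  rw [h1]
  refine Submodule.sum_mem _ fun i _ => ?_
  obtain ⟨g, hg, hgi⟩ := ord_spec (ψ := ψ) (𝔧 := 𝔧) (N := N) i
  obtain ⟨u, hu⟩ := ord_dvd hg i
  obtain ⟨h, hh⟩ := hf i
  have hu0 : PowerSeries.constantCoeff u ≠ 0 := by
    rw [hu] at hgi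
    have := PowerSeries.coeff_X_pow_mul u (ord ψ 𝔧 N i) 0
    rw [zero_add, PowerSeries.coeff_zero_eq_constantCoeff_apply] at this
    rwa [this] at hgi
  have h2 : (Pi.single i (f i) : PS s K) =
      (Pi.single i (PowerSeries.X ^ e * h * u⁻¹) : PS s K) * g := by
    funext j
    by_cases hj : j = i
    · subst hj
      rw [Pi.mul_apply, Pi.single_eq_same, Pi.single_eq_same, hh, hu]
      have : u⁻¹ * u = 1 := PowerSeries.inv_mul_cancel u hu0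
      calc _ = PowerSeries.X ^ (ord ψ 𝔧 N j + e) * h * 1 := by rw [mul_one]
        _ = _ := by rw [← this, pow_add]; ring
    · rw [Pi.mul_apply, Pi.single_eq_of_ne hj, Pi.single_eq_of_ne hj, zero_mul]
  rw [h2]
  refine cond_mul_mem_JN H hg fun j => ?_
  by_cases hj : j = i
  · subst hj
    rw [Pi.single_eq_same, mul_assoc]
    exact Dvd.intro _ rfl
  · rw [Pi.single_eq_of_ne hj]; exact dvd_zero _

/-- the truncated module. -/
noncomputable def MN (ψ : O →ₐ[k] PS s k) (e : ℕ) (𝔧 : Ideal (K ⊗[k] O)) (N : ℕ) :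
    Submodule K (E s e → K) where
  carrier := {v | ∃ g, xi (ord ψ 𝔧 N) * g ∈ JN ψ 𝔧 N ∧ tr e g = v}
  zero_mem' := ⟨0, by simp, by simp⟩
  add_mem' := by
    rintro _ _ ⟨g, hg, rfl⟩ ⟨g', hg', rfl⟩
    exact ⟨g + g', by rw [mul_add]; exact Submodule.add_mem _ hg hg', by rw [map_add]⟩
  smul_mem' := by
    rintro c _ ⟨g, hg, rfl⟩
    exact ⟨c • g, by rw [mul_smul_comm]; exact Submodule.smul_mem _ _ hg, by rw [map_smul]⟩

include H in
theorem JJ_MN : JJ e (ord ψ 𝔧 N) (MN ψ e 𝔧 N) = JN ψ 𝔧 N := by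
  ext f
  constructor
  · rintro ⟨g, rfl, g', hg', hgg'⟩
    have h1 : xi (ord ψ 𝔧 N) * g = xi (ord ψ 𝔧 N) * g' + xi (ord ψ 𝔧 N) * (g - g') := by ring
    rw [h1]
    refine Submodule.add_mem _ hg' (mem_JN_of_dvd H fun i => ?_)
    have h2 : tr e (g - g') = 0 := by rw [map_sub, hgg', sub_self]
    rw [tr_eq_zero_iff] at h2
    rw [Pi.mul_apply, pow_add]
    exact mul_dvd_mul_left _ (h2 i)
  · intro hf
    have h1 := eq_xi_mul_of_low (low_eq_zero hf)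
    refine ⟨_, h1, _, ?_, rfl⟩
    rw [← h1]
    exact hf

include H in
theorem isSub_MN [NeZero e] (hN : e ≤ N) : (dat ψ e (ord ψ 𝔧 N) L).IsSub (MN ψ e 𝔧 N) where
  stab := by
    rintro _ ⟨r, rfl⟩ v ⟨g, hg, rfl⟩
    refine ⟨mapP (algebraMap k K) (ψ r) * g, ?_, ?_⟩
    · have h1 := psiC_mul_mem_JN hg ((1 : K) ⊗ₜ r)
      rw [psiC_tmul, one_smul] at h1
      rwa [mul_left_comm]
    · rw [tr_mul, ← bcM_mulM]
  lin := by
    rintro v ⟨g, ⟨x, hx, hg⟩, rfl⟩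
    have h2 : Dat.bcM K (dat ψ e (ord ψ 𝔧 N) L).L = Dat.bcM K L * mulM e (xi (ord ψ 𝔧 N)) := by
      rw [← mapP_xi (algebraMap k K), ← bcM_mulM]
      ext x y
      simp [dat, Dat.bcM, Matrix.mul_apply, map_sum]
    rw [h2, ← Matrix.mulVec_mulVec, ← tr_mul]
    have h3 : tr e (xi (ord ψ 𝔧 N) * g) = tr e (psiC ψ K x) := by
      rw [← sub_eq_zero, ← map_sub, tr_eq_zero_iff]
      exact fun i => (pow_dvd_pow _ hN).trans (hg i)
    rw [h3, H.psi_mem_ker]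
  nonvanish i := by
    obtain ⟨f, hf, hfi⟩ := ord_spec (ψ := ψ) (𝔧 := 𝔧) (N := N) i
    have h1 := eq_xi_mul_of_low (low_eq_zero hf)
    refine ⟨tr e (shift (ord ψ 𝔧 N) f), ⟨_, h1 ▸ hf, rfl⟩, ?_⟩
    rw [eps_dot, tr_apply]
    change PowerSeries.coeff ((0 : Fin e) : ℕ) (PowerSeries.mk fun n =>
      PowerSeries.coeff (n + ord ψ 𝔧 N i) (f i)) ≠ 0
    have h0 : ((0 : Fin e) : ℕ) = 0 := by simp
    rw [PowerSeries.coeff_mk, h0, zero_add]
    exact hfi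

/-- `JJ` contains all tuples of high order. -/
theorem mem_JJ_of_dvd {C : Type w} [CommRing C] {a : Fin s → ℕ} {M : Submodule C (E s e → C)}
    {f : PS s C} (hf : ∀ i, PowerSeries.X ^ (a i + e) ∣ f i) : f ∈ JJ e a M := by
  have h1 : low a f = 0 := by
    ext x
    exact PowerSeries.X_pow_dvd_iff.1 (hf x.1) _ (lt_of_lt_of_le x.2.2 (Nat.le_add_right _ _))
  rw [eq_xi_mul_of_low h1, xi_mul_mem_JJ]
  have h2 : tr e (shift a f) = 0 := by
    rw [tr_eq_zero_iff]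
    intro i
    rw [PowerSeries.X_pow_dvd_iff]
    intro m hm
    change PowerSeries.coeff m (PowerSeries.mk fun n => PowerSeries.coeff (n + a i) (f i)) = 0
    rw [PowerSeries.coeff_mk]
    exact PowerSeries.X_pow_dvd_iff.1 (hf i) _ (by omega)
  rw [h2]
  exact Submodule.zero_mem _

include H in
theorem JJ_eq_JN [NeZero e] (hN : ∀ r, (∀ i, PowerSeries.X ^ N ∣ ψ r i) → (1 : K) ⊗ₜ[k] r ∈ 𝔧)
    (heN : e ≤ N) {a : Fin s → ℕ} {P : Finset (E s e)} {τ : Fin s → E s e}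
    {φ : E s e → E s e → K} (h : (dat ψ e a L).IsPt P τ φ)
    (h𝔧 : jjI e a (Mod P φ) (stable_of_isPt h) = 𝔧) : JJ e a (Mod P φ) = JN ψ 𝔧 N := by
  have hale : ∀ i, a i ≤ ∑ i, a i := fun i =>
    Finset.single_le_sum (f := a) (fun _ _ => Nat.zero_le _) (Finset.mem_univ i)
  -- approximation inside `JJ`
  have key : ∀ f : PS s K, Dat.bcM K L *ᵥ tr e f = 0 → ∃ x, (f - psiC ψ K x) ∈ JJ e a (Mod P φ) ∧
      ∀ i, PowerSeries.X ^ N ∣ (f - psiC ψ K x : PS s K) i := by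
    intro f hf
    obtain ⟨x, hx⟩ := H.approxC (N + ((∑ i, a i) + e)) f hf
    refine ⟨x, mem_JJ_of_dvd fun i => (pow_dvd_pow _ ?_).trans (hx i), fun i =>
      (pow_dvd_pow _ (Nat.le_add_right _ _)).trans (hx i)⟩
    have := hale i
    omega
  ext f
  constructor
  · intro hf
    obtain ⟨x, hx, hxN⟩ := key f (lin_of_isPt h hf)
    refine ⟨x, ?_, hxN⟩
    rw [← h𝔧, mem_jjI]
    have := Submodule.sub_mem _ hf hx
    rwa [sub_sub_cancel] at this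
  · rintro ⟨x, hx, hxN⟩
    have h1 : psiC ψ K x ∈ JJ e a (Mod P φ) := by
      rw [← h𝔧, mem_jjI] at hx
      exact hx
    have h2 : f - psiC ψ K x ∈ JJ e a (Mod P φ) := by
      obtain ⟨y, hy, hyN⟩ := key (f - psiC ψ K x) (by
        have : tr e (f - psiC ψ K x) = 0 := (tr_eq_zero_iff e).2 fun i =>
          (pow_dvd_pow _ heN).trans (hxN i)
        rw [this, Matrix.mulVec_zero])
      have h3 : y ∈ 𝔧 := by
        refine mem_of_psiC_dvd N 𝔧 hN y fun i => ?_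
        have := dvd_sub (hxN i) (hyN i)
        rw [Pi.sub_apply (f - psiC ψ K x) (psiC ψ K y), sub_sub_cancel] at this
        exact this
      rw [← h𝔧, mem_jjI] at h3
      have := Submodule.add_mem _ hy h3
      rwa [sub_add_cancel] at this
    have := Submodule.add_mem _ h2 h1
    rwa [sub_add_cancel] at this

include H in
theorem ord_eq [NeZero e] (hN : ∀ r, (∀ i, PowerSeries.X ^ N ∣ ψ r i) → (1 : K) ⊗ₜ[k] r ∈ 𝔧)
    (heN : e ≤ N) {a : Fin s → ℕ} {P : Finset (E s e)} {τ : Fin s → E s e}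
    {φ : E s e → E s e → K} (h : (dat ψ e a L).IsPt P τ φ)
    (h𝔧 : jjI e a (Mod P φ) (stable_of_isPt h) = 𝔧) : ord ψ 𝔧 N = a := by
  have hJ := JJ_eq_JN H hN heN h h𝔧
  funext i
  apply le_antisymm
  · obtain ⟨v, hv, hvi⟩ := h.nonvanish i
    rw [eps_dot] at hvi
    have h1 : xi a * lft e v ∈ JN ψ 𝔧 N := by
      rw [← hJ, xi_mul_mem_JJ, tr_lft]; exact hv
    by_contra hc
    have h2 := PowerSeries.X_pow_dvd_iff.1 (ord_dvd h1 i) (a i) (not_le.1 hc)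
    rw [xi_mul_apply, if_pos le_rfl, Nat.sub_self] at h2
    have h3 := congrFun (tr_lft e v) (toLex (i, 0))
    rw [tr_apply] at h3
    apply hvi
    rw [← h3]
    change PowerSeries.coeff ((0 : Fin e) : ℕ) (lft e v i) = 0
    have h0 : ((0 : Fin e) : ℕ) = 0 := by simp
    rw [h0]
    exact h2
  · obtain ⟨f, hf, hfi⟩ := ord_spec (ψ := ψ) (𝔧 := 𝔧) (N := N) i
    rw [← hJ] at hf
    obtain ⟨g, rfl, -⟩ := hf
    by_contra hc
    apply hfi
    rw [xi_mul_apply, if_neg hc]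

include H in
theorem MN_eq [NeZero e] (hN : ∀ r, (∀ i, PowerSeries.X ^ N ∣ ψ r i) → (1 : K) ⊗ₜ[k] r ∈ 𝔧)
    (heN : e ≤ N) {a : Fin s → ℕ} {P : Finset (E s e)} {τ : Fin s → E s e}
    {φ : E s e → E s e → K} (h : (dat ψ e a L).IsPt P τ φ)
    (h𝔧 : jjI e a (Mod P φ) (stable_of_isPt h) = 𝔧) : MN ψ e 𝔧 N = Mod P φ := by
  have hJ := JJ_eq_JN H hN heN h h𝔧
  have ha := ord_eq H hN heN h h𝔧
  ext v
  constructor
  · rintro ⟨g, hg, rfl⟩
    rw [ha, ← hJ, xi_mul_mem_JJ] at hg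
    exact hg
  · intro hv
    refine ⟨lft e v, ?_, tr_lft e v⟩
    rw [ha, ← hJ, xi_mul_mem_JJ, tr_lft]
    exact hv

include H in
/-- **Every ideal of `K ⊗ O` containing a power of the ideal `𝔫` comes from exactly one echelon datum.** -/
theorem existsUnique_datum [NeZero e] (hN : ∃ N, ∀ r, (∀ i, PowerSeries.X ^ N ∣ ψ r i) →
      (1 : K) ⊗ₜ[k] r ∈ 𝔧) :
    ∃! q : (Fin s → ℕ) × Finset (E s e) × (Fin s → E s e) × (E s e → E s e → K),
      ∃ h : (dat ψ e q.1 L).IsPt q.2.1 q.2.2.1 q.2.2.2,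
        jjI e q.1 (Mod q.2.1 q.2.2.2) (stable_of_isPt h) = 𝔧 := by
  obtain ⟨N₀, hN₀⟩ := hN
  obtain ⟨N, heN, hN⟩ : ∃ N, e ≤ N ∧ ∀ r, (∀ i, PowerSeries.X ^ N ∣ ψ r i) →
      (1 : K) ⊗ₜ[k] r ∈ 𝔧 :=
    ⟨max N₀ e, le_max_right _ _, fun r hr => hN₀ r fun i =>
      (pow_dvd_pow _ (le_max_left _ _)).trans (hr i)⟩
  obtain ⟨⟨P, τ, φ⟩, ⟨hpt, hM⟩, huniq⟩ := (isSub_MN (𝔧 := 𝔧) H heN).existsUnique
  simp only at hpt hM huniq
  refine ⟨(ord ψ 𝔧 N, P, τ, φ), ⟨hpt, ?_⟩, ?_⟩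
  · ext x
    rw [mem_jjI]
    change psiC ψ K x ∈ JJ e (ord ψ 𝔧 N) (Mod P φ) ↔ _
    rw [hM, JJ_MN H, psiC_mem_JN hN]
  · rintro ⟨a, P', τ', φ'⟩ ⟨h', h𝔧⟩
    simp only at h' h𝔧
    have ha := ord_eq H hN heN h' h𝔧
    subst ha
    have hM' := MN_eq H hN heN h' h𝔧
    have := huniq (P', τ', φ') ⟨h', hM'.symm⟩
    rw [this]

end main

end K537.HZ
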