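import Groth.Agent.HilbZeta.K537.Branches
import Groth.Agent.HilbZeta.K537.FieldPts
import Mathlib.LinearAlgebra.Matrix.ToLin

/-!
# The data `(ψ, L)` for a reduced one-dimensional local ring
-/

set_option autoImplicit false
set_option linter.unusedSectionVars false
universe u

open IsLocalRing nonZeroDivisors K421 K421.NormCl

namespace K537.HZ

/-- the equations of the truncated image. -/
theorem exists_L {k : Type u} [Field k] {s : ℕ} {O : Type u} [CommRing O] [Algebra k O]
    (ψ : O →ₐ[k] PS s k) (e : ℕ) : ∃ (δ : ℕ) (L : Matrix (Fin δ) (E s e) k),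
      (∀ v, L.mulVec v = 0 ↔ ∃ r, PS.tr e (ψ r) = v) ∧ ∀ w, ∃ v, L.mulVec v = w := by
  classical
  let B : Submodule k (E s e → k) := LinearMap.range ((PS.tr e) ∘ₗ ψ.toLinearMap)
  let b := Module.finBasis k ((E s e → k) ⧸ B)
  let l : (E s e → k) →ₗ[k] (Fin (Module.finrank k ((E s e → k) ⧸ B)) → k) :=
    b.equivFun.toLinearMap ∘ₗ B.mkQ
  refine ⟨_, LinearMap.toMatrix' l, fun v => ?_, fun w => ?_⟩
  · rw [LinearMap.toMatrix'_mulVec]
    change b.equivFun (B.mkQ v) = 0 ↔ _
    rw [LinearEquiv.map_eq_zero_iff, Submodule.mkQ_apply, Submodule.Quotient.mk_eq_zero]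
    exact Iff.rfl
  · obtain ⟨v, hv⟩ := B.mkQ_surjective (b.equivFun.symm w)
    refine ⟨v, ?_⟩
    rw [LinearMap.toMatrix'_mulVec]
    change b.equivFun (B.mkQ v) = w
    rw [hv, LinearEquiv.apply_symm_apply]

/-- the reduction of a reduced ring. -/
noncomputable def redEquiv (k A : Type u) [Field k] [CommRing A] [IsReduced A] [Algebra k A] :
    A ≃ₐ[k] CAlg2.red A :=
  AlgEquiv.ofBijective (Ideal.Quotient.mkₐ k (nilradical A))
    ⟨by
      intro x y h
      have h' := Ideal.Quotient.eq.1 h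
      rwa [nilradical_eq_zero A, Ideal.zero_eq_bot, Ideal.mem_bot, sub_eq_zero] at h',
      Ideal.Quotient.mk_surjective⟩

theorem exists_data (k A : Type u) [Field k] [IsAlgClosed k] [CommRing A] [IsLocalRing A] [IsReduced A]
    [Algebra k A] (hN : CAlg.IsNagata A) (hdim : ringKrullDim A = 1)
    (hk : Function.Surjective ((residue A).comp (algebraMap k A))) (s : ℕ)
    (hs : Brnch.numBranches A = s) :
    ∃ (e δ : ℕ) (_ : NeZero e) (ψ : A →ₐ[k] PS s k) (L : Matrix (Fin δ) (E s e) k), Hyp ψ e L ∧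
      (∀ n : ℕ, ∃ N : ℕ, ∀ r : A, (∀ i, PowerSeries.X ^ N ∣ ψ r i) → r ∈ maximalIdeal A ^ n) ∧
      ∀ r ∈ maximalIdeal A, ∀ i, PowerSeries.X ∣ ψ r i := by
  have hNoeth : IsNoetherianRing A := hN.1
  have hmin : (minimalPrimes A).Finite := minimalPrimes.finite_of_isNoetherianRing A
  let B := CAlg2.red A
  let ε : A ≃ₐ[k] B := redEquiv k A
  have hlocB : IsLocalRing B := ε.toRingEquiv.isLocalRing
  have hredB : IsReduced B := isReduced_of_injective ε.symm.toRingHom ε.symm.injective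
  have hNB : CAlg.IsNagata B := Groth.Agent.Ega4B.NagBasic.isNagata_of_ringEquiv ε.toRingEquiv hN
  have hNoethB : IsNoetherianRing B := hNB.1
  have hfin : Module.Finite B (NormCl.Cl B) := NormCl.finite_cl B hNB
  have hdimB : ringKrullDim B = 1 := by rw [← hdim]; exact (ringKrullDim_eq_of_ringEquiv ε.toRingEquiv).symm
  have hmaxB : ∀ (n : ℕ) (r : A), ε r ∈ maximalIdeal B ^ n ↔ r ∈ maximalIdeal A ^ n := by
    intro n r
    have h1 : maximalIdeal B = (maximalIdeal A).map ε.toRingEquiv := by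
      rw [← Ideal.comap_symm]
      exact (IsLocalRing.eq_maximalIdeal (Ideal.comap_isMaximal_of_equiv ε.toRingEquiv.symm)).symm
    rw [h1, ← Ideal.map_pow, ← Ideal.comap_symm, Ideal.mem_comap]
    have : ε.toRingEquiv.symm (ε r) = r := ε.symm_apply_apply r
    rw [this]
  have hkB : Function.Surjective ((residue B).comp (algebraMap k B)) := by
    intro y
    obtain ⟨b, rfl⟩ := residue_surjective y
    obtain ⟨a, rfl⟩ := ε.surjective b
    obtain ⟨c, hc⟩ := hk (residue A a)
    refine ⟨c, ?_⟩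
    rw [RingHom.comp_apply, ← sub_eq_zero, ← map_sub, residue_eq_zero_iff]
    have h1 : algebraMap k A c - a ∈ maximalIdeal A := by
      rw [← residue_eq_zero_iff, map_sub, sub_eq_zero]
      exact hc
    have h2 := (hmaxB 1 (algebraMap k A c - a)).2 (by rwa [pow_one])
    rwa [pow_one, map_sub, AlgEquiv.commutes] at h2
  have hcard : ENat.card (MaximalSpectrum (Cl B)) = s := by
    rw [← hs, Brnch.numBranches, if_pos hmin]
  obtain ⟨e, ψ, he, h1, h2, h3⟩ := exists_branches k B hkB hdimB s hcard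
  have hne : NeZero e := ⟨he.ne'⟩
  obtain ⟨δ, L, hL, hL'⟩ := exists_L (ψ.comp ε.toAlgHom) e
  refine ⟨e, δ, hne, ψ.comp ε.toAlgHom, L, ⟨hL, hL', ?_⟩, ?_, ?_⟩
  · intro N g hg
    obtain ⟨r, hr⟩ := h1 N g hg
    obtain ⟨a, rfl⟩ := ε.surjective r
    exact ⟨a, hr⟩
  · intro n
    obtain ⟨N, hN⟩ := h2 n
    exact ⟨N, fun r hr => (hmaxB n r).1 (hN _ hr)⟩
  · intro r hr i
    have := (hmaxB 1 r).2 (by rwa [pow_one])
    rw [pow_one] at this
    exact h3 _ this i

end K537.HZ
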