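import Groth.Agent.HilbZeta.K537.Geo
import Groth.Agent.HilbZeta.K537.CurveData

/-!
# The cells parametrise the ideals supported at the point
-/

set_option autoImplicit false
set_option linter.unusedSectionVars false
universe u

open CategoryTheory CategoryTheory.Limits AlgebraicGeometry TensorProduct

namespace K537.HZ

open PS K221.AffPt

/-- finite projective of constant rank gives finite locally free. -/
theorem isFinLocFreeOfDeg_zpi {k : Type u} [CommRing k] {A R : Type u} [CommRing A] [Algebra k A] [CommRing R]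
    [Algebra k R] [IsNoetherianRing R] (J : Ideal (R ⊗[k] A)) (d : ℕ)
    (h1 : Module.Finite R (R ⊗[k] A ⧸ J)) (h2 : Module.Projective R (R ⊗[k] A ⧸ J))
    (h3 : ∀ p : PrimeSpectrum R, Module.rankAtStalk (R ⊗[k] A ⧸ J) p = d) :
    Mor2.IsFinLocFreeOfDeg d (zpi J) := by
  have hfin : IsFinite (zpi J) := by
    rw [IsFinite.SpecMap_iff]
    exact RingHom.finite_algebraMap.2 h1
  have hflat : Flat (zpi J) := by
    rw [Flat.SpecMap_iff]
    exact RingHom.flat_algebraMap_iff.2 inferInstance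
  have hN : IsLocallyNoetherian (Spec (CommRingCat.of R)) := inferInstance
  refine ⟨⟨hfin, hflat, LocallyOfFinitePresentation.iff_locallyOfFiniteType.2 inferInstance⟩, ?_⟩
  intro y
  exact (Scheme.Hom.finrank_SpecMap_algebraMap R (R ⊗[k] A ⧸ J) y).trans (h3 y)

variable {k : Type u} [Field k] {s : ℕ} {A : Type u} [CommRing A] [Algebra k A] {ψ : A →ₐ[k] PS s k}
  {e : ℕ} [NeZero e] {δ : ℕ} {L : Matrix (Fin δ) (E s e) k} (H : Hyp ψ e L)

/-- base change of the universal ideal, one inclusion. -/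
theorem map_jjI_le {a : Fin s → ℕ} {P : Finset (E s e)} {τ : Fin s → E s e} {C C' : Type u} [CommRing C]
    [Algebra k C] [CommRing C'] [Algebra k C'] (y : C →ₐ[k] C') {φ : E s e → E s e → C}
    (h : (dat ψ e a L).IsPt P τ φ) (h' : (dat ψ e a L).IsPt P τ (fun p q => y (φ p q))) :
    (jjI e a (Mod P φ) (stable_of_isPt h)).map (bm A y) ≤
      jjI e a (Mod P fun p q => y (φ p q)) (stable_of_isPt h') := by
  rw [Ideal.map_le_iff_le_comap]
  intro x hx
  rw [Ideal.mem_comap, mem_jjI]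
  have hpsi : ∀ x : C ⊗[k] A, psiC ψ C' (bm A y x) = mapP (y : C →+* C') (psiC ψ C x) := by
    intro x
    induction x using TensorProduct.induction_on with
    | zero => simp
    | add x z hx hz => rw [map_add, map_add, map_add, hx, hz, map_add]
    | tmul c r =>
      have h1 : bm A y (c ⊗ₜ[k] r) = y c ⊗ₜ[k] r := by simp [bm]
      rw [h1, psiC_tmul, psiC_tmul, mapP_smul, mapP_comp]
      congr 2
      exact congrArg (fun g => mapP g) y.comp_algebraMap.symm
  rw [hpsi]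
  obtain ⟨g, hg, hgM⟩ := hx
  refine ⟨mapP (y : C →+* C') g, ?_, ?_⟩
  · rw [hg, map_mul, mapP_xi]
  · rw [tr_mapP, mem_Mod]
    intro q hq
    have h1 := mem_Mod.1 hgM q hq
    change y (tr e g q) = _
    rw [h1, map_sum]
    exact Finset.sum_congr rfl fun p _ => map_mul y _ _

/-- the index set in degree `d`. -/
def Idx (s e δ d : ℕ) : Type :=
  {q : (Fin s → ℕ) × Finset (E s e) × (Fin s → E s e) // ∑ i, q.1 i + s * e = d + δ + q.2.1.card}

variable (ψ e L) in
/-- the ring of a cell. -/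
noncomputable abbrev RR {d : ℕ} (i : Idx s e δ d) : Type u := (dat ψ e i.1.1 L).R i.1.2.1 i.1.2.2

variable (ψ e L) in
/-- the universal ideal of a cell. -/
noncomputable def JI {d : ℕ} (i : Idx s e δ d) : Ideal (RR ψ e L i ⊗[k] A) :=
  jjI e i.1.1 (Mod i.1.2.1 ((dat ψ e i.1.1 L).univ i.1.2.1 i.1.2.2))
    (stable_of_isPt ((dat ψ e i.1.1 L).isPt_univ i.1.2.1 i.1.2.2))

instance noeth_RR {d : ℕ} (i : Idx s e δ d) : IsNoetherianRing (RR ψ e L i) :=
  Algebra.FiniteType.isNoetherianRing k _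

include H in
theorem isFinLocFree_JI {d : ℕ} (i : Idx s e δ d) : Mor2.IsFinLocFreeOfDeg d (zpi (JI ψ e L i)) := by
  obtain ⟨h1, h2, h3⟩ := quot_proj H ((dat ψ e i.1.1 L).isPt_univ i.1.2.1 i.1.2.2)
  refine isFinLocFreeOfDeg_zpi _ d h1 h2 fun p => ?_
  have h4 := h3 p
  have h5 := i.2
  have h6 : Module.rankAtStalk (RR ψ e L i ⊗[k] A ⧸ JI ψ e L i) p + δ + i.1.2.1.card =
    (∑ j, i.1.1 j) + s * e := h4
  omega

theorem card_eq {K : Type u} [Field K] [Algebra k K] (H : Hyp ψ e L) {a : Fin s → ℕ}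
    {P : Finset (E s e)} {τ : Fin s → E s e} {φ : E s e → E s e → K} (h : (dat ψ e a L).IsPt P τ φ) :
    Module.Finite K ((K ⊗[k] A) ⧸ jjI e a (Mod P φ) (stable_of_isPt h)) ∧
    Module.finrank K ((K ⊗[k] A) ⧸ jjI e a (Mod P φ) (stable_of_isPt h)) + δ + P.card =
      (∑ i, a i) + s * e := by
  obtain ⟨h1, h2, h3⟩ := quot_proj H h
  refine ⟨h1, ?_⟩
  have h4 := h3 ⊥
  rwa [Module.rankAtStalk_eq_finrank_of_free] at h4

include H in
theorem map_JI {d : ℕ} (i : Idx s e δ d) {K : Type u} [Field K] [Algebra k K] (y : RR ψ e L i →ₐ[k] K) :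
    (JI ψ e L i).map (bm A y) =
      jjI e i.1.1 (Mod i.1.2.1 fun p q => y ((dat ψ e i.1.1 L).univ i.1.2.1 i.1.2.2 p q))
        (stable_of_isPt (((dat ψ e i.1.1 L).isPt_univ i.1.2.1 i.1.2.2).map y)) := by
  have hle := map_jjI_le y ((dat ψ e i.1.1 L).isPt_univ i.1.2.1 i.1.2.2)
    (((dat ψ e i.1.1 L).isPt_univ i.1.2.1 i.1.2.2).map y)
  refine le_antisymm hle ?_
  obtain ⟨h1, h2⟩ := card_eq H (((dat ψ e i.1.1 L).isPt_univ i.1.2.1 i.1.2.2).map y)
  set J' := jjI e i.1.1 (Mod i.1.2.1 fun p q => y ((dat ψ e i.1.1 L).univ i.1.2.1 i.1.2.2 p q))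
        (stable_of_isPt (((dat ψ e i.1.1 L).isPt_univ i.1.2.1 i.1.2.2).map y)) with hJ'
  set J₁ := (JI ψ e L i).map (bm A y) with hJ₁
  -- dimension of the other quotient
  have h3 : Module.Finite K (K ⊗[k] A ⧸ J₁) ∧ Module.finrank K (K ⊗[k] A ⧸ J₁) = d :=
    (isFinLocFreeOfDeg_zpi_iff J₁).1 (isFinLocFreeOfDeg_map
      (Spec.map (CommRingCat.ofHom (algebraMap k A))) (𝟙 _) (Category.id_comp _) y (JI ψ e L i)
      (isFinLocFree_JI H i))
  have h1' : Module.Finite K (K ⊗[k] A ⧸ J₁) := h3.1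
  have h5 : Module.finrank K (K ⊗[k] A ⧸ J') = d := by
    have := i.2
    omega
  -- the surjection
  let q : (K ⊗[k] A ⧸ J₁) →ₗ[K] (K ⊗[k] A ⧸ J') := (Ideal.Quotient.factorₐ K hle).toLinearMap
  have hq : Function.Surjective q := Ideal.Quotient.factor_surjective hle
  have hqi : Function.Injective q :=
    (LinearMap.injective_iff_surjective_of_finrank_eq_finrank (h3.2.trans h5.symm)).2 hq
  intro x hx
  rw [← Ideal.Quotient.eq_zero_iff_mem]
  apply hqi
  rw [map_zero]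
  change Ideal.Quotient.mk J' x = 0
  exact Ideal.Quotient.eq_zero_iff_mem.2 hx

include H in
/-- **The cells parametrise all ideals supported at `𝔪`.** -/
theorem param_JI (𝔪 : Ideal A) (hm : ∀ r ∈ 𝔪, ∀ i, PowerSeries.X ∣ ψ r i)
    (hsep : ∀ n : ℕ, ∃ N : ℕ, ∀ r : A, (∀ i, PowerSeries.X ^ N ∣ ψ r i) → r ∈ 𝔪 ^ n) (d : ℕ) :
    Geo.Param (k := k) (σ := Idx s e δ d) (fun i => RR ψ e L i) (fun i => JI ψ e L i) 𝔪 d := by
  constructor
  · intro i
    refine ⟨(∑ j, i.1.1 j) + e, fun r hr => ?_⟩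
    change psiC ψ (RR ψ e L i) ((1 : RR ψ e L i) ⊗ₜ[k] r) ∈ JJ e i.1.1 _
    rw [psiC_tmul, one_smul]
    refine mem_JJ_of_dvd fun j => ?_
    have h1 := dvd_of_mem_pow hm _ r hr j
    have h2 := map_dvd (PowerSeries.map (algebraMap k (RR ψ e L i))) h1
    rw [map_pow, PowerSeries.map_X] at h2
    refine (pow_dvd_pow _ ?_).trans h2
    have := Finset.single_le_sum (f := i.1.1) (fun _ _ => Nat.zero_le _) (Finset.mem_univ j)
    omega
  · intro K _ _ I hIf hId ⟨n, hn⟩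
    obtain ⟨N, hN⟩ := hsep n
    obtain ⟨⟨a, P, τ, φ⟩, ⟨hpt, hI⟩, huniq⟩ :=
      existsUnique_datum H (𝔧 := I) ⟨N, fun r hr => hn r (hN r hr)⟩
    simp only at hpt hI huniq
    obtain ⟨h1, h2⟩ := card_eq H hpt
    rw [hI, hId] at h2
    obtain ⟨y, hy, hyu⟩ := (dat ψ e a L).existsUnique_hom P τ φ hpt
    have hφ : (fun p q => y ((dat ψ e a L).univ P τ p q)) = φ := by
      ext p q; exact hy p q
    have hmap : ∀ (i : Idx s e δ d) (y : RR ψ e L i →ₐ[k] K), (JI ψ e L i).map (bm A y) = I ↔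
        (i.1.1, i.1.2.1, i.1.2.2, fun p q => y ((dat ψ e i.1.1 L).univ i.1.2.1 i.1.2.2 p q)) =
          (a, P, τ, φ) := by
      intro i y
      rw [map_JI H i y]
      constructor
      · intro h
        exact huniq _ ⟨((dat ψ e i.1.1 L).isPt_univ i.1.2.1 i.1.2.2).map y, h⟩
      · intro h
        rw [← hI]
        obtain ⟨⟨a', P', τ'⟩, hi⟩ := i
        simp only [Prod.mk.injEq] at h
        obtain ⟨rfl, rfl, rfl, h4⟩ := h
        ext x
        rw [mem_jjI, mem_jjI]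
        change psiC ψ K x ∈ JJ e a' (Mod P' _) ↔ _
        rw [h4]
    refine ⟨⟨⟨(a, P, τ), by simp only; omega⟩, y⟩, ?_, ?_⟩
    · refine (hmap _ _).2 ?_
      change (a, P, τ, fun p q => y ((dat ψ e a L).univ P τ p q)) = (a, P, τ, φ)
      rw [hφ]
    · rintro ⟨i', y'⟩ h'
      have h3 := (hmap i' y').1 h'
      obtain ⟨⟨a', P', τ'⟩, hi⟩ := i'
      simp only [Prod.mk.injEq] at h3
      obtain ⟨rfl, rfl, rfl, h4⟩ := h3
      congr 1
      exact hyu y' fun p q => congrFun (congrFun h4 p) q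

end K537.HZ
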