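import Groth.Agent.HilbZeta.K537.Echelon
import Mathlib.Algebra.MvPolynomial.CommRing
import Mathlib.RingTheory.Localization.Away.Basic
import Mathlib.RingTheory.Localization.Away.AdjoinRoot
import Mathlib.RingTheory.FiniteType
import Mathlib.RingTheory.FinitePresentation
import Mathlib.RingTheory.Ideal.Quotient.Operations
import Mathlib.Data.Matrix.Mul

/-!
# Universal rings for echelon cells with linear-algebra conditions

Data over a field (ring) `k`: a finite linear order `E`, a set `T` of `E × E`-matrices, an `F × E`-matrix `Λ`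
and vectors `ε i` on `E`.  For `P : Finset E` and `τ : I → E` the ring `Cell.R D P τ` is the universal
`k`-algebra carrying a matrix `φ` in echelon form such that `Mod P φ` is stable under `T`, killed by `Λ` and such
that `ε i (u_p) = 0` for `p < τ i` and `ε i (u_{τ i})` is a unit.
-/

set_option autoImplicit false
set_option linter.unusedSectionVars false
universe u v w

open Matrix

namespace K537.HZ

/-- linear algebra conditions on subspaces of `k^E`. -/
structure Dat (k : Type u) (E F I : Type) where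
  /-- matrices which must preserve the subspace -/
  T : Set (Matrix E E k)
  /-- equations -/
  L : Matrix F E k
  /-- functionals which must not vanish on the subspace -/
  ε : I → E → k

namespace Dat

variable {k : Type u} [CommRing k] {E F I : Type} [Fintype E] [LinearOrder E]
  (D : Dat k E F I) (P : Finset E) (τ : I → E)

/-- base change of a matrix. -/
abbrev bcM (C : Type*) [CommRing C] [Algebra k C] {F : Type*} (A : Matrix F E k) : Matrix F E C :=
  A.map (algebraMap k C)

/-- The closed conditions on `φ`. -/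
inductive Eqn (D : Dat k E F I) (P : Finset E) (τ : I → E) {C : Type w} [CommRing C] [Algebra k C]
    (φ : E → E → C) : C → Prop
  | ech (p q : E) (h : ¬ (p ∈ P ∧ q ∉ P ∧ p < q)) : Eqn D P τ φ (φ p q)
  | stab (A : Matrix E E k) (hA : A ∈ D.T) (p : E) (hp : p ∈ P) (q : {q // q ∉ P}) :
      Eqn D P τ φ (res P φ (bcM C A *ᵥ uvec φ p) q)
  | lin (p : E) (hp : p ∈ P) (l : F) : Eqn D P τ φ ((bcM C D.L *ᵥ uvec φ p) l)
  | first (i : I) (p : E) (hp : p ∈ P) (h : p < τ i) :
      Eqn D P τ φ ((fun e => algebraMap k C (D.ε i e)) ⬝ᵥ uvec φ p)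
  | bad (h : ¬ ∀ i, τ i ∈ P) : Eqn D P τ φ 1

/-- the element to be inverted. -/
def unitElt [Fintype I] {C : Type w} [CommRing C] [Algebra k C] (φ : E → E → C) : C :=
  ∏ i, ((fun e => algebraMap k C (D.ε i e)) ⬝ᵥ uvec φ (τ i))

/-- `φ` is a point of the cell `(P, τ)`. -/
structure IsPt [Fintype I] {C : Type w} [CommRing C] [Algebra k C] (φ : E → E → C) : Prop where
  eqn : ∀ x, Eqn D P τ φ x → x = 0
  unit : IsUnit (D.unitElt τ φ)

variable {D P τ}

section nat

variable {C : Type w} [CommRing C] [Algebra k C] {C' : Type v} [CommRing C'] [Algebra k C']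
  (y : C →ₐ[k] C') (φ : E → E → C)

theorem map_bcM_mulVec {F : Type*} (A : Matrix F E k) (v : E → C) (l : F) :
    y ((bcM C A *ᵥ v) l) = (bcM C' A *ᵥ (fun e => y (v e))) l := by
  simp only [bcM, mulVec, dotProduct, map_sum, map_mul, Matrix.map_apply, AlgHom.commutes]

theorem map_dot (ε : E → k) (v : E → C) :
    y ((fun e => algebraMap k C (ε e)) ⬝ᵥ v) = (fun e => algebraMap k C' (ε e)) ⬝ᵥ (fun e => y (v e)) := by
  simp only [dotProduct, map_sum, map_mul, AlgHom.commutes]

theorem Eqn.map {x : C} (h : Eqn D P τ φ x) : Eqn D P τ (fun p q => y (φ p q)) (y x) := by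
  have hu : ∀ p, (fun e => y (uvec φ p e)) = uvec (fun p q => y (φ p q)) p := fun p =>
    funext fun q => map_uvec (y : C →+* C') φ p q
  cases h with
  | ech p q h => exact Eqn.ech p q h
  | stab A hA p hp q =>
    have h1 := map_res (y : C →+* C') P φ (bcM C A *ᵥ uvec φ p) q
    have h2 : (fun e => (y : C →+* C') ((bcM C A *ᵥ uvec φ p) e)) =
        bcM C' A *ᵥ uvec (fun p q => y (φ p q)) p := by
      rw [← hu p]
      exact funext fun e => map_bcM_mulVec y A (uvec φ p) e
    rw [h2] at h1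
    have h3 := Eqn.stab (D := D) (τ := τ) (φ := fun p q => y (φ p q)) A hA p hp q
    rw [← show _ = res P (fun p q => y (φ p q)) (bcM C' A *ᵥ uvec (fun p q => y (φ p q)) p) q from h1]
      at h3
    exact h3
  | lin p hp l =>
    rw [map_bcM_mulVec, hu p]
    exact Eqn.lin p hp l
  | first i p hp h =>
    rw [map_dot, hu p]
    exact Eqn.first i p hp h
  | bad h =>
    rw [map_one]
    exact Eqn.bad h

theorem Eqn.exists_of_map {x : C'} (h : Eqn D P τ (fun p q => y (φ p q)) x) :
    ∃ z, Eqn D P τ φ z ∧ y z = x := by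
  have hu : ∀ p, (fun e => y (uvec φ p e)) = uvec (fun p q => y (φ p q)) p := fun p =>
    funext fun q => map_uvec (y : C →+* C') φ p q
  cases h with
  | ech p q h => exact ⟨_, Eqn.ech p q h, rfl⟩
  | stab A hA p hp q =>
    refine ⟨_, Eqn.stab A hA p hp q, ?_⟩
    have h1 := map_res (y : C →+* C') P φ (bcM C A *ᵥ uvec φ p) q
    have h2 : (fun e => (y : C →+* C') ((bcM C A *ᵥ uvec φ p) e)) =
        bcM C' A *ᵥ uvec (fun p q => y (φ p q)) p := by
      rw [← hu p]
      exact funext fun e => map_bcM_mulVec y A (uvec φ p) e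
    rw [h2] at h1
    exact h1
  | lin p hp l =>
    refine ⟨_, Eqn.lin p hp l, ?_⟩
    rw [map_bcM_mulVec, hu p]
  | first i p hp h =>
    refine ⟨_, Eqn.first i p hp h, ?_⟩
    rw [map_dot, hu p]
  | bad h =>
    exact ⟨_, Eqn.bad h, map_one _⟩

theorem map_unitElt [Fintype I] :
    y (D.unitElt τ φ) = D.unitElt τ (fun p q => y (φ p q)) := by
  have hu : ∀ p, (fun e => y (uvec φ p e)) = uvec (fun p q => y (φ p q)) p := fun p =>
    funext fun q => map_uvec (y : C →+* C') φ p q
  simp only [unitElt, map_prod, map_dot, hu]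

variable {φ} in
theorem IsPt.map [Fintype I] (h : IsPt D P τ φ) : IsPt D P τ (fun p q => y (φ p q)) where
  eqn x hx := by
    obtain ⟨z, hz, rfl⟩ := Eqn.exists_of_map y φ hx
    rw [h.eqn z hz, map_zero]
  unit := by
    rw [← map_unitElt]
    exact h.unit.map y

end nat

section cell

variable [Fintype I] (D P τ)

/-- the ideal of the closed conditions. -/
noncomputable def 𝔞 : Ideal (MvPolynomial (E × E) k) :=
  Ideal.span {x | Eqn D P τ (fun p q => (MvPolynomial.X (p, q) : MvPolynomial (E × E) k)) x}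

/-- the closed part of the cell. -/
noncomputable abbrev Q : Type u := MvPolynomial (E × E) k ⧸ D.𝔞 P τ

/-- the universal matrix on the closed part. -/
noncomputable def univQ (p q : E) : D.Q P τ := Ideal.Quotient.mkₐ k (D.𝔞 P τ) (MvPolynomial.X (p, q))

/-- the ring of the cell. -/
noncomputable abbrev R : Type u := Localization.Away (D.unitElt τ (D.univQ P τ))

/-- the universal matrix. -/
noncomputable def univ (p q : E) : D.R P τ :=
  IsScalarTower.toAlgHom k (D.Q P τ) (D.R P τ) (D.univQ P τ p q)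

instance finiteType : Algebra.FiniteType k (D.R P τ) := by
  have h1 : Algebra.FiniteType k (D.Q P τ) :=
    Algebra.FiniteType.of_surjective (Ideal.Quotient.mkₐ k (D.𝔞 P τ)) Ideal.Quotient.mk_surjective
  have h2 : Algebra.FiniteType (D.Q P τ) (D.R P τ) := by
    have := IsLocalization.Away.finitePresentation (D.unitElt τ (D.univQ P τ)) (S := D.R P τ)
    infer_instance
  exact Algebra.FiniteType.trans h1 h2

theorem isPt_univ : IsPt D P τ (D.univ P τ) := by
  have h1 : ∀ x, Eqn D P τ (D.univQ P τ) x → x = 0 := by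
    intro x hx
    obtain ⟨z, hz, rfl⟩ := Eqn.exists_of_map (Ideal.Quotient.mkₐ k (D.𝔞 P τ))
      (fun p q => (MvPolynomial.X (p, q) : MvPolynomial (E × E) k)) hx
    exact Ideal.Quotient.eq_zero_iff_mem.2 (Ideal.subset_span hz)
  constructor
  · intro x hx
    obtain ⟨z, hz, rfl⟩ := Eqn.exists_of_map (IsScalarTower.toAlgHom k (D.Q P τ) (D.R P τ))
      (D.univQ P τ) hx
    rw [h1 z hz, map_zero]
  · have h2 := map_unitElt (D := D) (τ := τ) (IsScalarTower.toAlgHom k (D.Q P τ) (D.R P τ))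
      (D.univQ P τ)
    have h3 : D.unitElt τ (D.univ P τ) = D.unitElt τ (fun p q =>
      (IsScalarTower.toAlgHom k (D.Q P τ) (D.R P τ)) (D.univQ P τ p q)) := rfl
    rw [h3, ← h2]
    exact IsLocalization.Away.algebraMap_isUnit (D.unitElt τ (D.univQ P τ))

theorem existsUnique_hom {C : Type w} [CommRing C] [Algebra k C] (φ : E → E → C)
    (h : IsPt D P τ φ) : ∃! y : D.R P τ →ₐ[k] C, ∀ p q, y (D.univ P τ p q) = φ p q := by
  let y₀ : MvPolynomial (E × E) k →ₐ[k] C := MvPolynomial.aeval fun pq => φ pq.1 pq.2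
  have hy₀ : (fun p q => y₀ (MvPolynomial.X (p, q))) = φ := by
    ext p q; simp [y₀]
  have hker : ∀ a ∈ D.𝔞 P τ, y₀ a = 0 := by
    intro a ha
    have hle : D.𝔞 P τ ≤ RingHom.ker y₀ := by
      rw [𝔞, Ideal.span_le]
      intro x hx
      have h1 := Eqn.map y₀ _ hx
      rw [hy₀] at h1
      exact h.eqn _ h1
    exact hle ha
  let y₁ : D.Q P τ →ₐ[k] C := Ideal.Quotient.liftₐ (D.𝔞 P τ) y₀ hker
  have hy₁ : (fun p q => y₁ (D.univQ P τ p q)) = φ := by
    rw [← hy₀]
    rfl
  have hu : IsUnit (y₁ (D.unitElt τ (D.univQ P τ))) := by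
    rw [map_unitElt, hy₁]
    exact h.unit
  let y₂ : D.R P τ →ₐ[k] C := IsLocalization.liftAlgHom (M := Submonoid.powers
    (D.unitElt τ (D.univQ P τ))) (f := y₁) (by
      rintro ⟨_, n, rfl⟩
      rw [map_pow]
      exact hu.pow n)
  refine ⟨y₂, ?_, ?_⟩
  · intro p q
    have : y₂ (D.univ P τ p q) = y₁ (D.univQ P τ p q) := by
      change y₂ (algebraMap _ _ _) = _
      simp [y₂]
    rw [this]
    exact congrFun (congrFun hy₁ p) q
  · intro y hy
    have key : ∀ z : D.R P τ →ₐ[k] C, (∀ p q, z (D.univ P τ p q) = φ p q) →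
        z.comp (IsScalarTower.toAlgHom k (D.Q P τ) (D.R P τ)) = y₁ := by
      intro z hz
      apply Ideal.Quotient.algHom_ext
      apply MvPolynomial.algHom_ext
      rintro ⟨p, q⟩
      have h1 := hz p q
      have h2 : y₁ (D.univQ P τ p q) = φ p q := congrFun (congrFun hy₁ p) q
      exact h1.trans h2.symm
    have hy₂ : ∀ p q, y₂ (D.univ P τ p q) = φ p q := by
      intro p q
      have : y₂ (D.univ P τ p q) = y₁ (D.univQ P τ p q) := by
        change y₂ (algebraMap _ _ _) = _
        simp [y₂]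
      rw [this]
      exact congrFun (congrFun hy₁ p) q
    have h3 := (key y hy).trans (key y₂ hy₂).symm
    apply IsLocalization.algHom_ext (Submonoid.powers (D.unitElt τ (D.univQ P τ)))
    exact h3

end cell

section conditions

variable [Fintype I] {C : Type w} [CommRing C] [Algebra k C] {φ : E → E → C}

theorem IsPt.isEch (h : IsPt D P τ φ) : IsEch P φ := fun p q hpq => h.eqn _ (Eqn.ech p q hpq)

theorem IsPt.τ_mem [Nontrivial C] (h : IsPt D P τ φ) (i : I) : τ i ∈ P := by
  by_contra hc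
  exact one_ne_zero (h.eqn 1 (Eqn.bad fun hh => hc (hh i)))

theorem IsPt.stab (h : IsPt D P τ φ) {A : Matrix E E k} (hA : A ∈ D.T) {v : E → C}
    (hv : v ∈ Mod P φ) : bcM C A *ᵥ v ∈ Mod P φ := by
  rw [h.isEch.eq_sum hv, Matrix.mulVec_sum]
  refine Submodule.sum_mem _ fun p hp => ?_
  rw [Matrix.mulVec_smul]
  refine Submodule.smul_mem _ _ ?_
  rw [Mod, LinearMap.mem_ker]
  ext q
  exact h.eqn _ (Eqn.stab A hA p hp q)

theorem IsPt.lin (h : IsPt D P τ φ) {v : E → C} (hv : v ∈ Mod P φ) : bcM C D.L *ᵥ v = 0 := by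
  rw [h.isEch.eq_sum hv, Matrix.mulVec_sum]
  refine Finset.sum_eq_zero fun p hp => ?_
  rw [Matrix.mulVec_smul]
  have : bcM C D.L *ᵥ uvec φ p = 0 := funext fun l => h.eqn _ (Eqn.lin p hp l)
  rw [this, smul_zero]

theorem IsPt.isUnit (h : IsPt D P τ φ) (i : I) :
    IsUnit ((fun e => algebraMap k C (D.ε i e)) ⬝ᵥ uvec φ (τ i)) := by
  have h1 := h.unit
  rw [unitElt] at h1
  classical
  rw [← Finset.mul_prod_erase Finset.univ _ (Finset.mem_univ i)] at h1
  exact isUnit_of_mul_isUnit_left h1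

theorem IsPt.nonvanish [Nontrivial C] (h : IsPt D P τ φ) (i : I) :
    ∃ v ∈ Mod P φ, (fun e => algebraMap k C (D.ε i e)) ⬝ᵥ v ≠ 0 :=
  ⟨uvec φ (τ i), h.isEch.uvec_mem (h.τ_mem i), (h.isUnit i).ne_zero⟩

end conditions

section field

variable [Fintype I] {K : Type w} [Field K] [Algebra k K]

/-- the subspaces parametrised. -/
structure IsSub (D : Dat k E F I) (M : Submodule K (E → K)) : Prop where
  stab : ∀ A ∈ D.T, ∀ v ∈ M, bcM K A *ᵥ v ∈ M
  lin : ∀ v ∈ M, bcM K D.L *ᵥ v = 0
  nonvanish : ∀ i, ∃ v ∈ M, (fun e => algebraMap k K (D.ε i e)) ⬝ᵥ v ≠ 0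

theorem IsPt.isSub {φ : E → E → K} (h : IsPt D P τ φ) : IsSub D (Mod P φ) where
  stab _ hA _ hv := h.stab hA hv
  lin _ hv := h.lin hv
  nonvanish i := h.nonvanish i

theorem IsSub.existsUnique (M : Submodule K (E → K)) (h : IsSub D M) :
    ∃! q : Finset E × (I → E) × (E → E → K), IsPt D q.1 q.2.1 q.2.2 ∧ Mod q.1 q.2.2 = M := by
  classical
  obtain ⟨⟨P, φ⟩, ⟨h1, h2⟩, h3⟩ := existsUnique_echelon M
  simp only at h1 h2
  subst h2
  -- existence of `τ`
  have hτ : ∀ i, ∃ p ∈ P, (fun e => algebraMap k K (D.ε i e)) ⬝ᵥ uvec φ p ≠ 0 ∧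
      ∀ p' ∈ P, p' < p → (fun e => algebraMap k K (D.ε i e)) ⬝ᵥ uvec φ p' = 0 := by
    intro i
    obtain ⟨v, hv, hne⟩ := h.nonvanish i
    have hex : ∃ p ∈ P, (fun e => algebraMap k K (D.ε i e)) ⬝ᵥ uvec φ p ≠ 0 := by
      by_contra hcon
      push Not at hcon
      apply hne
      rw [h1.eq_sum hv, dotProduct_sum]
      refine Finset.sum_eq_zero fun p hp => ?_
      rw [dotProduct_smul, hcon p hp, smul_zero]
    have hne' : (P.filter fun p => (fun e => algebraMap k K (D.ε i e)) ⬝ᵥ uvec φ p ≠ 0).Nonempty := by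
      obtain ⟨p, hp, hp'⟩ := hex
      exact ⟨p, Finset.mem_filter.2 ⟨hp, hp'⟩⟩
    have h4 := Finset.mem_filter.1 (Finset.min'_mem _ hne')
    refine ⟨_, h4.1, h4.2, ?_⟩
    intro p' hp' hlt
    by_contra hc
    exact absurd (Finset.min'_le _ p' (Finset.mem_filter.2 ⟨hp', hc⟩)) (not_le.2 hlt)
  choose τ hτP hτne hτlt using hτ
  have hpt : IsPt D P τ φ := by
    constructor
    · intro x hx
      cases hx with
      | ech p q h => exact h1 p q h
      | stab A hA p hp q =>
        have := h.stab A hA _ (h1.uvec_mem hp)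
        rw [Mod, LinearMap.mem_ker] at this
        exact congrFun this q
      | lin p hp l => exact congrFun (h.lin _ (h1.uvec_mem hp)) l
      | first i p hp hlt => exact hτlt i p hp hlt
      | bad hb => exact absurd hτP hb
    · rw [unitElt]
      exact (isUnit_iff_ne_zero.2 (Finset.prod_ne_zero_iff.2 fun i _ => hτne i))
  refine ⟨(P, τ, φ), ⟨hpt, rfl⟩, ?_⟩
  rintro ⟨P', τ', φ'⟩ ⟨hpt', hM⟩
  simp only at hpt' hM
  have h5 := h3 (P', φ') ⟨hpt'.isEch, hM⟩
  obtain ⟨rfl, rfl⟩ := Prod.mk.inj h5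
  have h6 : τ' = τ := by
    funext i
    rcases lt_trichotomy (τ' i) (τ i) with hh | hh | hh
    · exact absurd (hτlt i _ (hpt'.τ_mem i) hh) (hpt'.isUnit i).ne_zero
    · exact hh
    · exact absurd (hpt'.eqn _ (Eqn.first i _ (hτP i) hh)) (hτne i)
  rw [h6]

end field

end Dat

end K537.HZ
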