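import Groth.Agent.S0549
import Groth.Agent.S12524
import Mathlib.RingTheory.AdicCompletion.LocalRing
import Mathlib.RingTheory.AdicCompletion.Noetherian
import Mathlib.RingTheory.PowerSeries.Inverse

/-!
# Power series expansions in a discrete valuation ring with a coefficient field
-/

set_option autoImplicit false
universe u

open IsLocalRing

namespace K537.HZ

theorem exists_hom_dvr (k B : Type u) [Field k] [CommRing B] [IsDomain B] [IsDiscreteValuationRing B]
    [Algebra k B] (hk : Function.Surjective ((residue B).comp (algebraMap k B))) (t : B)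
    (ht : maximalIdeal B = Ideal.span {t}) :
    ∃ χ : B →ₐ[k] PowerSeries k, χ t = PowerSeries.X := by
  obtain ⟨h1, h2⟩ := (Groth.Agent.S0549.result B).1 ⟨inferInstance, inferInstance⟩
  let Bh := AdicCompletion (maximalIdeal B) B
  have hmax : maximalIdeal Bh = (maximalIdeal B).map (algebraMap B Bh) :=
    AdicCompletion.maximalIdeal_eq_map
  have hcomp : IsAdicComplete (maximalIdeal Bh) Bh := inferInstance
  have hx : maximalIdeal Bh = Ideal.span {algebraMap B Bh t} := by
    refine (hmax.trans (congrArg (Ideal.map (algebraMap B Bh)) ht)).trans ?_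
    rw [Ideal.map_span, Set.image_singleton]
  have hres : Function.Bijective ((residue Bh).comp (algebraMap k Bh)) := by
    refine ⟨RingHom.injective _, ?_⟩
    intro y
    obtain ⟨z, rfl⟩ := (AdicCompletion.residueField_map_bijective B).2 y
    obtain ⟨c, rfl⟩ := hk z
    refine ⟨c, ?_⟩
    rfl
  obtain ⟨φ, hφX, hφ, -⟩ := Groth.Agent.S12524.result k Bh hres (algebraMap B Bh t) hx
  let e := AlgEquiv.ofBijective φ hφ
  refine ⟨e.symm.toAlgHom.comp (IsScalarTower.toAlgHom k B Bh), ?_⟩
  change e.symm (algebraMap B Bh t) = PowerSeries.X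
  rw [AlgEquiv.symm_apply_eq]
  exact hφX.symm

theorem exists_dvrChart (k B : Type u) [Field k] [CommRing B] [IsDomain B] [IsDiscreteValuationRing B]
    [Algebra k B] (hk : Function.Surjective ((residue B).comp (algebraMap k B))) :
    ∃ χ : B →ₐ[k] PowerSeries k,
      (∀ (b : B) (n : ℕ), PowerSeries.X ^ n ∣ χ b ↔ b ∈ maximalIdeal B ^ n) ∧
      ∀ (g : PowerSeries k) (n : ℕ), ∃ b : B, PowerSeries.X ^ n ∣ g - χ b := by
  obtain ⟨t, ht⟩ := IsDiscreteValuationRing.exists_irreducible B
  have hm : maximalIdeal B = Ideal.span {t} := ht.maximalIdeal_eq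
  obtain ⟨χ, hχ⟩ := exists_hom_dvr k B hk t hm
  refine ⟨χ, ?_, ?_⟩
  · intro b n
    rw [hm, Ideal.span_singleton_pow, Ideal.mem_span_singleton]
    constructor
    · intro h
      by_cases hb : b = 0
      · rw [hb]; exact dvd_zero _
      · obtain ⟨m, u, rfl⟩ := IsDiscreteValuationRing.eq_unit_mul_pow_irreducible hb ht
        rw [map_mul, map_pow, hχ] at h
        have hu : IsUnit (χ (u : B)) := u.isUnit.map χ
        rw [hu.dvd_mul_left] at h
        have h1 : n ≤ m := by
          by_contra hc
          have h2 := PowerSeries.X_pow_dvd_iff.1 h m (not_le.1 hc)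
          rw [PowerSeries.coeff_X_pow_self] at h2
          exact one_ne_zero h2
        exact Dvd.dvd.mul_left (pow_dvd_pow t h1) _
    · rintro ⟨c, rfl⟩
      rw [map_mul, map_pow, hχ]
      exact Dvd.intro _ rfl
  · intro g n
    refine ⟨∑ i ∈ Finset.range n, algebraMap k B (PowerSeries.coeff i g) * t ^ i, ?_⟩
    rw [PowerSeries.X_pow_dvd_iff]
    intro m hm
    rw [map_sub, map_sum, map_sum, Finset.sum_eq_single m]
    · rw [map_mul, map_pow, hχ, AlgHom.commutes, PowerSeries.algebraMap_apply, PowerSeries.coeff_C_mul,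
        PowerSeries.coeff_X_pow_self]
      simp
    · intro b _ hb
      rw [map_mul, map_pow, hχ, AlgHom.commutes, PowerSeries.algebraMap_apply, PowerSeries.coeff_C_mul,
        PowerSeries.coeff_X_pow, if_neg (Ne.symm hb), mul_zero]
    · intro h
      exact absurd (Finset.mem_range.2 hm) h

end K537.HZ
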