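import Mathlib.LinearAlgebra.Dimension.Constructions
import Mathlib.LinearAlgebra.FiniteDimensional.Lemmas
import Mathlib.Data.Matrix.Basic
import Mathlib.LinearAlgebra.Matrix.ToLin

/-!
# Reduced echelon forms of subspaces of `K^E`

For a finite linearly ordered set `E`, a pair `(P, φ)` with `P : Finset E`, `φ : E → E → C` supported on
`{(p, q) | p ∈ P, q ∉ P, p < q}` gives the submodule `Mod P φ` of `E → C` with basis
`u_p = e_p + ∑ φ p q e_q`.  Over a field every subspace has exactly one such form.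
-/

set_option autoImplicit false
set_option linter.unusedSectionVars false
universe u v w

namespace K537.HZ

section ring

variable {E : Type v} [Fintype E] [LinearOrder E] {C : Type w} [CommRing C]

/-- echelon condition -/
def IsEch (P : Finset E) (φ : E → E → C) : Prop :=
  ∀ p q, ¬ (p ∈ P ∧ q ∉ P ∧ p < q) → φ p q = 0

/-- the basis vector `u_p`. -/
def uvec (φ : E → E → C) (p : E) : E → C := fun q => (if q = p then 1 else 0) + φ p q

/-- the equations of `Mod P φ`. -/
def res (P : Finset E) (φ : E → E → C) : (E → C) →ₗ[C] ({q // q ∉ P} → C) where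
  toFun v q := v q.1 - ∑ p ∈ P, v p * φ p q.1
  map_add' v w := by
    ext q
    simp only [Pi.add_apply, add_mul, Finset.sum_add_distrib]
    ring
  map_smul' c v := by
    ext q
    simp only [Pi.smul_apply, smul_eq_mul, RingHom.id_apply, mul_sub, Finset.mul_sum, mul_assoc]

theorem res_apply (P : Finset E) (φ : E → E → C) (v : E → C) (q : {q // q ∉ P}) :
    res P φ v q = v q.1 - ∑ p ∈ P, v p * φ p q.1 := rfl

/-- the submodule attached to `(P, φ)`. -/
def Mod (P : Finset E) (φ : E → E → C) : Submodule C (E → C) := LinearMap.ker (res P φ)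

theorem mem_Mod {P : Finset E} {φ : E → E → C} {v : E → C} :
    v ∈ Mod P φ ↔ ∀ q, q ∉ P → v q = ∑ p ∈ P, v p * φ p q := by
  rw [Mod, LinearMap.mem_ker, funext_iff]
  constructor
  · intro h q hq
    have := h ⟨q, hq⟩
    rw [res_apply] at this
    exact sub_eq_zero.1 this
  · rintro h ⟨q, hq⟩
    rw [res_apply]
    exact sub_eq_zero.2 (h q hq)

theorem res_surjective (P : Finset E) (φ : E → E → C) : Function.Surjective (res P φ) := by
  intro w
  refine ⟨fun e => if h : e ∉ P then w ⟨e, h⟩ else 0, ?_⟩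
  ext ⟨q, hq⟩
  rw [res_apply]
  have : ∑ p ∈ P, (if h : p ∉ P then w ⟨p, h⟩ else 0) * φ p q = 0 := by
    refine Finset.sum_eq_zero fun p hp => ?_
    simp [hp]
  rw [this]
  simp [hq]

variable {P : Finset E} {φ : E → E → C}

theorem IsEch.uvec_self (h : IsEch P φ) (p : E) : uvec φ p p = 1 := by
  simp [uvec, h p p (fun hh => lt_irrefl _ hh.2.2)]

theorem IsEch.uvec_of_mem (h : IsEch P φ) (p : E) {q : E} (hq : q ∈ P) :
    uvec φ p q = if q = p then 1 else 0 := by
  simp [uvec, h p q (fun hh => hh.2.1 hq)]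

theorem uvec_of_ne (p : E) {q : E} (hq : q ≠ p) : uvec φ p q = φ p q := by
  simp [uvec, hq]

theorem IsEch.uvec_of_lt (h : IsEch P φ) (p : E) {q : E} (hq : q < p) : uvec φ p q = 0 := by
  rw [uvec_of_ne p hq.ne, h p q (fun hh => (lt_asymm hh.2.2 hq))]

theorem IsEch.uvec_mem (h : IsEch P φ) {p : E} (hp : p ∈ P) : uvec φ p ∈ Mod P φ := by
  rw [mem_Mod]
  intro q hq
  rw [Finset.sum_eq_single p]
  · rw [h.uvec_self, one_mul, uvec_of_ne]
    rintro rfl; exact hq hp
  · intro p' hp' hne
    rw [h.uvec_of_mem p hp', if_neg hne, zero_mul]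
  · intro h'; exact absurd hp h'

theorem IsEch.eq_sum (h : IsEch P φ) {v : E → C} (hv : v ∈ Mod P φ) :
    v = ∑ p ∈ P, v p • uvec φ p := by
  ext e
  rw [Finset.sum_apply]
  simp only [Pi.smul_apply, smul_eq_mul]
  by_cases he : e ∈ P
  · rw [Finset.sum_eq_single e]
    · rw [h.uvec_self, mul_one]
    · intro p' hp' hne
      rw [h.uvec_of_mem p' he, if_neg (Ne.symm hne), mul_zero]
    · intro h'; exact absurd he h'
  · rw [mem_Mod.1 hv e he]
    refine Finset.sum_congr rfl fun p hp => ?_
    rw [uvec_of_ne]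
    rintro rfl; exact he hp

theorem IsEch.map (h : IsEch P φ) {C' : Type*} [CommRing C'] (y : C →+* C') :
    IsEch P (fun p q => y (φ p q)) := by
  intro p q hpq
  change y (φ p q) = 0
  rw [h p q hpq, map_zero]

theorem map_uvec {C' : Type*} [CommRing C'] (y : C →+* C') (φ : E → E → C) (p q : E) :
    y (uvec φ p q) = uvec (fun p q => y (φ p q)) p q := by
  simp only [uvec, map_add]
  split_ifs <;> simp

theorem map_res {C' : Type*} [CommRing C'] (y : C →+* C') (P : Finset E) (φ : E → E → C) (v : E → C)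
    (q : {q // q ∉ P}) :
    y (res P φ v q) = res P (fun p q => y (φ p q)) (fun e => y (v e)) q := by
  simp only [res_apply, map_sub, map_sum, map_mul]

end ring

section field

variable {E : Type v} [Fintype E] [LinearOrder E] {K : Type w} [Field K]

/-- the set of leading indices of a subspace. -/
noncomputable def lead (M : Submodule K (E → K)) : Finset E := by
  classical
  exact Finset.univ.filter fun e => ∃ v ∈ M, v e = 1 ∧ ∀ e' < e, v e' = 0

theorem mem_lead {M : Submodule K (E → K)} {e : E} :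
    e ∈ lead M ↔ ∃ v ∈ M, v e = 1 ∧ ∀ e' < e, v e' = 0 := by
  classical
  simp [lead]

theorem exists_mem_lead {M : Submodule K (E → K)} {v : E → K} (hv : v ∈ M) (h0 : v ≠ 0) :
    ∃ e ∈ lead M, v e ≠ 0 ∧ ∀ e' < e, v e' = 0 := by
  classical
  obtain ⟨e, he⟩ : ∃ e, v e ≠ 0 := by
    by_contra hcon
    push Not at hcon
    exact h0 (funext hcon)
  have hne : (Finset.univ.filter fun e => v e ≠ 0).Nonempty := ⟨e, by simp [he]⟩
  let m := (Finset.univ.filter fun e => v e ≠ 0).min' hne
  have hm : v m ≠ 0 := by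
    have := Finset.min'_mem _ hne
    simpa using this
  have hlt : ∀ e' < m, v e' = 0 := by
    intro e' he'
    by_contra hc
    exact absurd (Finset.min'_le _ e' (by simp [hc])) (not_le.2 he')
  refine ⟨m, mem_lead.2 ⟨(v m)⁻¹ • v, M.smul_mem _ hv, ?_, ?_⟩, hm, hlt⟩
  · simp [hm]
  · intro e' he'
    simp [hlt e' he']

theorem lead_Mod {P : Finset E} {φ : E → E → K} (h : IsEch P φ) : lead (Mod P φ) = P := by
  ext e
  rw [mem_lead]
  constructor
  · rintro ⟨v, hv, hve, hlt⟩
    by_contra he
    have h1 := mem_Mod.1 hv e he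
    rw [Finset.sum_eq_zero, hve] at h1
    · exact one_ne_zero h1
    · intro p hp
      by_cases hpe : p < e
      · rw [hlt p hpe, zero_mul]
      · rw [h p e (fun hh => hpe hh.2.2), mul_zero]
  · intro he
    exact ⟨uvec φ e, h.uvec_mem he, h.uvec_self e, fun e' he' => h.uvec_of_lt e he'⟩

theorem eq_of_Mod_eq {P : Finset E} {φ φ' : E → E → K} (h : IsEch P φ) (h' : IsEch P φ')
    (hM : Mod P φ = Mod P φ') : φ = φ' := by
  ext p q
  by_cases hpq : p ∈ P ∧ q ∉ P ∧ p < q
  · have h1 : uvec φ p ∈ Mod P φ' := hM ▸ h.uvec_mem hpq.1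
    have h2 := mem_Mod.1 h1 q hpq.2.1
    rw [Finset.sum_eq_single p] at h2
    · rwa [h.uvec_self, one_mul, uvec_of_ne p (ne_of_gt hpq.2.2)] at h2
    · intro p' hp' hne
      rw [h.uvec_of_mem p hp', if_neg hne, zero_mul]
    · intro hh; exact absurd hpq.1 hh
  · rw [h p q hpq, h' p q hpq]

theorem exists_echelon (M : Submodule K (E → K)) :
    ∃ (P : Finset E) (φ : E → E → K), IsEch P φ ∧ Mod P φ = M := by
  classical
  let P := lead M
  let ρ : M →ₗ[K] (P → K) :=
    { toFun := fun v p => v.1 p.1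
      map_add' := fun _ _ => rfl
      map_smul' := fun _ _ => rfl }
  have hinj : Function.Injective ρ := by
    rw [← LinearMap.ker_eq_bot, LinearMap.ker_eq_bot']
    intro v hv
    by_contra h0
    obtain ⟨e, he, hve, -⟩ := exists_mem_lead v.2 (fun h => h0 (Subtype.ext h))
    exact hve (congrFun hv ⟨e, he⟩)
  choose w hwM hw1 hwlt using fun p : P => mem_lead.1 p.2
  have hli : LinearIndependent K (fun p : P => (⟨w p, hwM p⟩ : M)) := by
    rw [Fintype.linearIndependent_iff]
    intro a ha
    by_contra hcon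
    push Not at hcon
    obtain ⟨p₀, hp₀⟩ := hcon
    have hne : (Finset.univ.filter fun p : P => a p ≠ 0).Nonempty := ⟨p₀, by simp [hp₀]⟩
    let m := (Finset.univ.filter fun p : P => a p ≠ 0).min' hne
    have hm : a m ≠ 0 := (Finset.mem_filter.1 (Finset.min'_mem _ hne)).2
    have hlt : ∀ p' < m, a p' = 0 := by
      intro e' he'
      by_contra hc
      exact absurd (Finset.min'_le _ e' (by simp [hc])) (not_le.2 he')
    have h1 := congrFun (congrArg Subtype.val ha) m.1
    rw [AddSubmonoidClass.coe_finsetSum, Finset.sum_apply] at h1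
    rw [Finset.sum_eq_single m] at h1
    · simp only [SetLike.val_smul, Pi.smul_apply, smul_eq_mul, hw1, mul_one] at h1
      exact hm (by simpa using h1)
    · intro p _ hpm
      change a p * w p m.1 = 0
      rcases lt_trichotomy p m with hh | hh | hh
      · rw [hlt p hh, zero_mul]
      · exact absurd hh hpm
      · rw [hwlt p m.1 hh, mul_zero]
    · intro hh; exact absurd (Finset.mem_univ _) hh
  have hcard : Fintype.card P ≤ Module.finrank K M := hli.fintype_card_le_finrank
  have hle : Module.finrank K M ≤ Fintype.card P := by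
    have := LinearMap.finrank_le_finrank_of_injective hinj
    simpa using this
  have hsurj : Function.Surjective ρ := by
    have heq : Module.finrank K M = Module.finrank K (P → K) := by
      rw [Module.finrank_pi]; exact le_antisymm hle hcard
    exact (LinearMap.injective_iff_surjective_of_finrank_eq_finrank heq).1 hinj
  choose u hu using fun p : P => hsurj (Pi.single p 1)
  have hu' : ∀ (p : P) (q : E) (hq : q ∈ P), (u p).1 q = if q = p.1 then 1 else 0 := by
    intro p q hq
    have := congrFun (hu p) ⟨q, hq⟩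
    change (u p).1 q = _ at this
    rw [this, Pi.single_apply]
    simp only [Subtype.ext_iff]
  have hu0 : ∀ p : P, (u p).1 ≠ 0 := by
    intro p h0
    have := hu' p p.1 p.2
    rw [h0] at this
    simp at this
  have hult : ∀ (p : P) (q : E), q < p.1 → (u p).1 q = 0 := by
    intro p q hq
    obtain ⟨e, he, hne, hlt⟩ := exists_mem_lead (u p).2 (hu0 p)
    have h1 := hu' p e he
    have h2 : e = p.1 := by
      by_contra hc
      rw [if_neg hc] at h1
      exact hne h1
    exact hlt q (h2 ▸ hq)
  let φ : E → E → K := fun p q => if h : p ∈ P ∧ q ∉ P ∧ p < q then (u ⟨p, h.1⟩).1 q else 0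
  have hφ : IsEch P φ := by
    intro p q hpq
    simp [φ, hpq]
  have huv : ∀ p : P, (u p).1 = uvec φ p.1 := by
    intro p
    ext q
    by_cases hq : q ∈ P
    · rw [hu' p q hq, hφ.uvec_of_mem p.1 hq]
    · have hqp : q ≠ p.1 := fun h => hq (h ▸ p.2)
      rw [uvec_of_ne p.1 hqp]
      rcases lt_or_gt_of_ne hqp with hh | hh
      · rw [hult p q hh, hφ p.1 q (fun h => lt_asymm hh h.2.2)]
      · have h3 : p.1 ∈ P ∧ q ∉ P ∧ p.1 < q := ⟨p.2, hq, hh⟩
        simp only [φ, dif_pos h3]
  refine ⟨P, φ, hφ, le_antisymm ?_ ?_⟩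
  · intro v hv
    rw [hφ.eq_sum hv]
    refine M.sum_mem fun p hp => M.smul_mem _ ?_
    rw [← huv ⟨p, hp⟩]
    exact (u ⟨p, hp⟩).2
  · intro v hv
    have h1 : (⟨v, hv⟩ : M) = ∑ p : P, v p.1 • u p := by
      apply hinj
      ext q
      rw [map_sum, Finset.sum_apply]
      simp only [map_smul, Pi.smul_apply, hu, smul_eq_mul]
      rw [Finset.sum_eq_single q]
      · simp [ρ]
      · intro b _ hb
        rw [Pi.single_eq_of_ne (Ne.symm hb), mul_zero]
      · intro hh; exact absurd (Finset.mem_univ _) hh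
    have h2 : v = ∑ p : P, v p.1 • (u p).1 := by
      have := congrArg Subtype.val h1
      rw [AddSubmonoidClass.coe_finsetSum] at this
      exact this
    rw [h2]
    refine Submodule.sum_mem _ fun p _ => Submodule.smul_mem _ _ ?_
    rw [huv p]
    exact hφ.uvec_mem p.2

theorem existsUnique_echelon (M : Submodule K (E → K)) :
    ∃! q : Finset E × (E → E → K), IsEch q.1 q.2 ∧ Mod q.1 q.2 = M := by
  obtain ⟨P, φ, h1, h2⟩ := exists_echelon M
  refine ⟨(P, φ), ⟨h1, h2⟩, ?_⟩
  rintro ⟨P', φ'⟩ ⟨h1', h2'⟩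
  simp only at h1' h2'
  have hP : P' = P := by rw [← lead_Mod h1', ← lead_Mod h1, h2, h2']
  subst hP
  rw [eq_of_Mod_eq h1' h1 (h2'.trans h2.symm)]

end field

end K537.HZ
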