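import Groth.Agent.HilbZeta.K537.Approx

/-!
# The family of ideals over a cell
-/

set_option autoImplicit false
set_option linter.unusedSectionVars false
universe u v w

open Matrix TensorProduct

namespace K537.HZ

open PS

section linalg

/-- A quotient `W` of `V` by the kernel of a map onto the kernel of a surjection of finite free modules is
finite projective. -/
theorem proj_of_seq {C : Type w} [CommRing C] {V W F₁ F₂ : Type*} [AddCommGroup V] [Module C V]
    [AddCommGroup W] [Module C W] [AddCommGroup F₁] [Module C F₁] [AddCommGroup F₂] [Module C F₂]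
    [Module.Free C F₁] [Module.Finite C F₁] [Module.Free C F₂] [Module.Finite C F₂]
    (f : V →ₗ[C] W) (hf : Function.Surjective f) (g : V →ₗ[C] F₁) (h : F₁ →ₗ[C] F₂)
    (hh : Function.Surjective h) (hk : LinearMap.ker f = LinearMap.ker g)
    (hr : LinearMap.range g = LinearMap.ker h) :
    Module.Finite C W ∧ Module.Projective C W ∧
      ∀ p : PrimeSpectrum C, Module.rankAtStalk W p + Module.finrank C F₂ = Module.finrank C F₁ := by
  obtain ⟨l, hl⟩ := Module.projective_lifting_property h LinearMap.id hh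
  have hex : Function.Exact (LinearMap.ker h).subtype h := by
    intro x
    constructor
    · intro hx; exact ⟨⟨x, hx⟩, rfl⟩
    · rintro ⟨y, rfl⟩; exact y.2
  let e₁ : F₁ ≃ₗ[C] (LinearMap.ker h) × F₂ :=
    (hex.splitSurjectiveEquiv (LinearMap.ker h).injective_subtype ⟨l, hl⟩).1
  let e₂ : W ≃ₗ[C] LinearMap.ker h :=
    (f.quotKerEquivOfSurjective hf).symm ≪≫ₗ Submodule.quotEquivOfEq _ _ hk ≪≫ₗ
      g.quotKerEquivRange ≪≫ₗ LinearEquiv.ofEq _ _ hr
  have hfin : Module.Finite C (LinearMap.ker h) :=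
    Module.Finite.of_surjective ((LinearMap.fst C _ _) ∘ₗ e₁.toLinearMap)
      (fun x => ⟨e₁.symm (x, 0), by simp⟩)
  have hproj : Module.Projective C (LinearMap.ker h) := by
    refine Module.Projective.of_split (M := F₁) (e₁.symm.toLinearMap ∘ₗ LinearMap.inl C _ _)
      ((LinearMap.fst C _ _) ∘ₗ e₁.toLinearMap) ?_
    ext x
    simp
  refine ⟨Module.Finite.equiv e₂.symm, Module.Projective.of_equiv e₂.symm, fun p => ?_⟩
  have : Nontrivial C := ⟨⟨0, 1, fun h01 => p.2.ne_top ((Ideal.eq_top_iff_one _).2 (h01 ▸ p.1.zero_mem))⟩⟩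
  rw [Module.rankAtStalk_eq_of_equiv e₂]
  have h1 := congrFun (Module.rankAtStalk_eq_of_equiv (R := C) e₁) p
  rw [Module.rankAtStalk_prod, Pi.add_apply, Module.rankAtStalk_eq_finrank_of_free (M := F₁),
    Module.rankAtStalk_eq_finrank_of_free (M := F₂)] at h1
  simpa using h1.symm

end linalg

variable {k : Type u} [Field k] {s : ℕ} {O : Type v} [CommRing O] [Algebra k O] (ψ : O →ₐ[k] PS s k)
  (e : ℕ) (a : Fin s → ℕ)

/-- stability under multiplication by the image of `ψ`. -/
def Stable {C : Type w} [CommRing C] [Algebra k C] (M : Submodule C (E s e → C)) : Prop :=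
  ∀ r : O, ∀ v ∈ M, Dat.bcM C (mulM e (ψ r)) *ᵥ v ∈ M

variable {ψ} in
/-- the ideal of `C ⊗ O` attached to `(a, M)`. -/
noncomputable def jjI {C : Type w} [CommRing C] [Algebra k C] (M : Submodule C (E s e → C))
    (hM : Stable ψ e M) : Ideal (C ⊗[k] O) where
  carrier := {x | psiC ψ C x ∈ JJ e a M}
  zero_mem' := by
    change psiC ψ C 0 ∈ JJ e a M
    rw [map_zero]; exact Submodule.zero_mem _
  add_mem' := by
    intro x y hx hy
    change psiC ψ C (x + y) ∈ JJ e a M
    rw [map_add]; exact Submodule.add_mem _ hx hy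
  smul_mem' := by
    intro y x hx
    change psiC ψ C (y • x) ∈ JJ e a M
    rw [smul_eq_mul]
    induction y using TensorProduct.induction_on with
    | zero => rw [zero_mul, map_zero]; exact Submodule.zero_mem _
    | add y z hy hz => rw [add_mul, map_add]; exact Submodule.add_mem _ hy hz
    | tmul c r =>
      obtain ⟨g, hg, hgM⟩ := hx
      rw [map_mul, hg, psiC_tmul, smul_mul_assoc]
      refine Submodule.smul_mem _ _ ⟨mapP (algebraMap k C) (ψ r) * g, by ring, ?_⟩
      rw [tr_mul, ← bcM_mulM]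
      exact hM r _ hgM

variable {ψ} in
theorem mem_jjI {C : Type w} [CommRing C] [Algebra k C] (M : Submodule C (E s e → C))
    (hM : Stable ψ e M) (x : C ⊗[k] O) : x ∈ jjI e a M hM ↔ psiC ψ C x ∈ JJ e a M := Iff.rfl

/-- the linear algebra data. -/
noncomputable def dat [NeZero e] {δ : ℕ} (L : Matrix (Fin δ) (E s e) k) :
    Dat k (E s e) (Fin δ) (Fin s) where
  T := Set.range fun r => mulM e (ψ r)
  L := L * mulM e (xi a)
  ε i x := if x = toLex (i, 0) then 1 else 0

theorem mulM_xi_min {k : Type*} [CommRing k] :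
    (mulM e (xi a : PS s k)) = mulM e (xi fun i => min (a i) e) := by
  ext x y
  rw [mulM, mulM, tr_apply, tr_apply, xi_mul_apply, xi_mul_apply]
  by_cases h : a (ofLex x).1 ≤ e
  · simp only [min_eq_left h]
  · have h1 : ¬ a (ofLex x).1 ≤ ((ofLex x).2 : ℕ) := by
      have := (ofLex x).2.2; omega
    have h2 : ¬ min (a (ofLex x).1) e ≤ ((ofLex x).2 : ℕ) := by
      have := (ofLex x).2.2
      rw [min_eq_right (le_of_not_ge h)]; omega
    rw [if_neg h1, if_neg h2]

theorem dat_min [NeZero e] {δ : ℕ} (L : Matrix (Fin δ) (E s e) k) :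
    dat ψ e a L = dat ψ e (fun i => min (a i) e) L := by
  rw [dat, dat, mulM_xi_min]

variable {ψ e a} [NeZero e] {δ : ℕ} {L : Matrix (Fin δ) (E s e) k}
  {C : Type w} [CommRing C] [Algebra k C]
  {P : Finset (E s e)} {τ : Fin s → E s e} {φ : E s e → E s e → C}

theorem eps_dot (i : Fin s) (v : E s e → C) :
    (fun x => algebraMap k C ((dat ψ e a L).ε i x)) ⬝ᵥ v = v (toLex (i, 0)) := by
  rw [dotProduct, Finset.sum_eq_single (toLex (i, 0))]
  · simp [dat]
  · intro b _ hb
    simp [dat, hb]
  · intro h; exact absurd (Finset.mem_univ _) h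

theorem stable_of_isPt (h : (dat ψ e a L).IsPt P τ φ) : Stable ψ e (Mod P φ) :=
  fun r _ hv => h.stab ⟨r, rfl⟩ hv

theorem lin_of_isPt (h : (dat ψ e a L).IsPt P τ φ) {f : PS s C} (hf : f ∈ JJ e a (Mod P φ)) :
    Dat.bcM C L *ᵥ tr e f = 0 := by
  obtain ⟨g, rfl, hg⟩ := hf
  have h1 := h.lin hg
  have h2 : Dat.bcM C (dat ψ e a L).L = Dat.bcM C L * mulM e (xi a) := by
    rw [← mapP_xi (algebraMap k C) a, ← bcM_mulM]
    ext x y
    simp [dat, Dat.bcM, Matrix.mul_apply, map_sum]
  rw [h2, ← Matrix.mulVec_mulVec, ← tr_mul] at h1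
  exact h1

variable (H : Hyp ψ e L)

include H in
/-- **The universal quotient over a cell is finite projective.** -/
theorem quot_proj (h : (dat ψ e a L).IsPt P τ φ) :
    Module.Finite C ((C ⊗[k] O) ⧸ jjI e a (Mod P φ) (stable_of_isPt h)) ∧
    Module.Projective C ((C ⊗[k] O) ⧸ jjI e a (Mod P φ) (stable_of_isPt h)) ∧
    ∀ p : PrimeSpectrum C, Module.rankAtStalk ((C ⊗[k] O) ⧸ jjI e a (Mod P φ) (stable_of_isPt h)) p +
      δ + P.card = (∑ i, a i) + s * e := by
  classical
  -- the map `κ`
  obtain ⟨κ, hκ⟩ : ∃ κ : ((Σ i, Fin (a i)) → C) × ({q // q ∉ P} → C) →ₗ[C] (Fin δ → C),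
      κ ∘ₗ theta e a P φ = (Dat.bcM C L).mulVecLin ∘ₗ tr e := by
    have hle : LinearMap.ker (theta e a P φ) ≤ LinearMap.ker ((Dat.bcM C L).mulVecLin ∘ₗ tr e) := by
      intro f hf
      exact lin_of_isPt h ((mem_ker_theta e a P φ).1 hf)
    refine ⟨((LinearMap.ker (theta e a P φ)).liftQ _ hle) ∘ₗ
      ((theta e a P φ).quotKerEquivOfSurjective (theta_surjective e a P φ)).symm.toLinearMap, ?_⟩
    refine LinearMap.ext fun f => ?_
    have h1 : ((theta e a P φ).quotKerEquivOfSurjective (theta_surjective e a P φ)).symm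
        (theta e a P φ f) = Submodule.Quotient.mk f := by
      rw [LinearEquiv.symm_apply_eq]
      rfl
    change ((LinearMap.ker (theta e a P φ)).liftQ _ hle)
      (((theta e a P φ).quotKerEquivOfSurjective (theta_surjective e a P φ)).symm
        (theta e a P φ f)) = _
    rw [h1]
    rfl
  have hκ' : ∀ f, κ (theta e a P φ f) = Dat.bcM C L *ᵥ tr e f := fun f => LinearMap.congr_fun hκ f
  have hκs : Function.Surjective κ := by
    intro w
    have hLs : ∀ l : Fin δ, ∃ v : E s e → C, Dat.bcM C L *ᵥ v = Pi.single l 1 := by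
      intro l
      obtain ⟨v, hv⟩ := H.L_surj (Pi.single l 1)
      refine ⟨fun x => algebraMap k C (v x), ?_⟩
      ext l'
      have := Dat.map_bcM_mulVec (Algebra.ofId k C) L v l'
      rw [show (Dat.bcM k L) = L from by ext; simp [Dat.bcM], hv] at this
      refine (show _ = _ from this.symm).trans ?_
      rw [Pi.single_apply, Pi.single_apply]
      split_ifs <;> simp
    choose v hv using hLs
    refine ⟨theta e a P φ (lft e (∑ l, w l • v l)), ?_⟩
    rw [hκ', tr_lft, Matrix.mulVec_sum]
    simp_rw [Matrix.mulVec_smul, hv]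
    ext l'
    rw [Finset.sum_apply]
    simp only [Pi.smul_apply, smul_eq_mul, Pi.single_apply, mul_ite, mul_one, mul_zero]
    rw [Finset.sum_ite_eq]
    simp
  have hr : LinearMap.range ((theta e a P φ) ∘ₗ (psiC ψ C).toLinearMap) = LinearMap.ker κ := by
    ext y
    rw [LinearMap.mem_range, LinearMap.mem_ker]
    constructor
    · rintro ⟨x, rfl⟩
      change κ (theta e a P φ (psiC ψ C x)) = 0
      rw [hκ', H.psi_mem_ker]
    · intro hy
      obtain ⟨f, rfl⟩ := theta_surjective e a P φ y
      rw [hκ'] at hy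
      obtain ⟨x, hx⟩ := H.approxC ((∑ i, a i) + e) f hy
      refine ⟨x, ?_⟩
      change theta e a P φ (psiC ψ C x) = theta e a P φ f
      symm
      rw [← sub_eq_zero, ← map_sub, ← LinearMap.mem_ker, mem_ker_theta]
      have hale : ∀ i, a i ≤ ∑ i, a i := fun i =>
        Finset.single_le_sum (f := a) (fun _ _ => Nat.zero_le _) (Finset.mem_univ i)
      have hlow : low a (f - psiC ψ C x) = 0 := by
        ext z
        exact PowerSeries.X_pow_dvd_iff.1 (hx z.1) _
          (lt_of_lt_of_le z.2.2 ((hale z.1).trans (Nat.le_add_right _ _)))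
      rw [eq_xi_mul_of_low hlow, xi_mul_mem_JJ]
      have h0 : tr e (shift a (f - psiC ψ C x)) = 0 := by
        rw [tr_eq_zero_iff]
        intro i
        rw [PowerSeries.X_pow_dvd_iff]
        intro m hm
        change PowerSeries.coeff m (PowerSeries.mk fun n =>
          PowerSeries.coeff (n + a i) ((f - psiC ψ C x) i)) = 0
        rw [PowerSeries.coeff_mk]
        exact PowerSeries.X_pow_dvd_iff.1 (hx i) _ (by have := hale i; omega)
      rw [h0]
      exact Submodule.zero_mem _
  have key := proj_of_seq (C := C)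
    ((Ideal.Quotient.mkₐ C (jjI e a (Mod P φ) (stable_of_isPt h))).toLinearMap)
    Ideal.Quotient.mk_surjective ((theta e a P φ) ∘ₗ (psiC ψ C).toLinearMap) κ hκs (by
      ext x
      rw [LinearMap.mem_ker, LinearMap.mem_ker]
      change Ideal.Quotient.mk _ x = 0 ↔ theta e a P φ (psiC ψ C x) = 0
      rw [Ideal.Quotient.eq_zero_iff_mem, mem_jjI, ← LinearMap.mem_ker, mem_ker_theta]) hr
  refine ⟨key.1, key.2.1, fun p => ?_⟩
  have : Nontrivial C := ⟨⟨0, 1, fun h01 => p.2.ne_top ((Ideal.eq_top_iff_one _).2 (h01 ▸ p.1.zero_mem))⟩⟩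
  have h2 := key.2.2 p
  rw [Module.finrank_prod, Module.finrank_pi, Module.finrank_pi, Module.finrank_pi,
    Fintype.card_fin, Fintype.card_sigma] at h2
  have h3 : Fintype.card {q // q ∉ P} + P.card = s * e := by
    have h4 : Fintype.card {q // q ∉ P} = Fintype.card (E s e) - P.card := by
      rw [Fintype.card_subtype_compl, Fintype.card_coe]
    have h5 : Fintype.card (E s e) = s * e := by
      change Fintype.card (Fin s × Fin e) = s * e
      rw [Fintype.card_prod, Fintype.card_fin, Fintype.card_fin]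
    have h6 : P.card ≤ Fintype.card (E s e) := Finset.card_le_univ P
    omega
  have h7 : ∑ i, Fintype.card (Fin (a i)) = ∑ i, a i := by simp
  rw [h7] at h2
  omega

end K537.HZ
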