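import Groth.Agent.HilbZeta.K537.Cells
import Mathlib.RingTheory.PowerSeries.Basic
import Mathlib.RingTheory.TensorProduct.Maps
import Mathlib.Data.Prod.Lex
import Mathlib.RingTheory.PowerSeries.Trunc

/-!
# Truncations of tuples of power series and the ideals `ξ^a · M`
-/

set_option autoImplicit false
set_option linter.unusedSectionVars false
universe u v w

open Matrix TensorProduct

namespace K537.HZ

/-- index set: branch and exponent `< e`. -/
abbrev E (s e : ℕ) : Type := Fin s ×ₗ Fin e

/-- tuples of power series. -/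
abbrev PS (s : ℕ) (C : Type w) [CommRing C] : Type w := Fin s → PowerSeries C

namespace PS

variable {s : ℕ} (e : ℕ) {C : Type w} [CommRing C]

/-- truncation. -/
noncomputable def tr : PS s C →ₗ[C] (E s e → C) where
  toFun f x := PowerSeries.coeff (ofLex x).2 (f (ofLex x).1)
  map_add' f g := by ext x; simp
  map_smul' c f := by ext x; simp

theorem tr_apply (f : PS s C) (x : E s e) :
    tr e f x = PowerSeries.coeff (ofLex x).2 (f (ofLex x).1) := rfl

theorem tr_eq_zero_iff {f : PS s C} : tr e f = 0 ↔ ∀ i, PowerSeries.X ^ e ∣ f i := by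
  constructor
  · intro h i
    rw [PowerSeries.X_pow_dvd_iff]
    intro m hm
    exact congrFun h (toLex (i, ⟨m, hm⟩))
  · intro h
    ext x
    exact PowerSeries.X_pow_dvd_iff.1 (h _) _ (ofLex x).2.2

/-- a lift of a truncated tuple. -/
noncomputable def lft (v : E s e → C) : PS s C :=
  fun i => PowerSeries.mk fun n => if h : n < e then v (toLex (i, ⟨n, h⟩)) else 0

theorem tr_lft (v : E s e → C) : tr e (lft e v) = v := by
  ext x
  rw [tr_apply, lft, PowerSeries.coeff_mk, dif_pos (ofLex x).2.2]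
  rfl

/-- monomials. -/
noncomputable def mono (x : E s e) : PS s C := Pi.single (ofLex x).1 (PowerSeries.X ^ ((ofLex x).2 : ℕ))

theorem tr_mono (x y : E s e) : tr e (mono e x : PS s C) y = if y = x then 1 else 0 := by
  rw [tr_apply, mono]
  by_cases h1 : (ofLex y).1 = (ofLex x).1
  · rw [h1, Pi.single_eq_same, PowerSeries.coeff_X_pow]
    by_cases h2 : (ofLex y).2 = (ofLex x).2
    · rw [if_pos (congrArg Fin.val h2), if_pos]
      exact ofLex.injective (Prod.ext h1 h2)
    · rw [if_neg (fun h => h2 (Fin.ext h)), if_neg]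
      rintro rfl
      exact h2 rfl
  · rw [Pi.single_eq_of_ne h1, map_zero, if_neg]
    rintro rfl
    exact h1 rfl

theorem dvd_sub_sum_mono (g : PS s C) (i : Fin s) :
    PowerSeries.X ^ e ∣ (g - ∑ y, tr e g y • mono e y : PS s C) i := by
  refine (tr_eq_zero_iff e).1 ?_ i
  rw [map_sub, map_sum]
  ext x
  simp only [map_smul, Pi.sub_apply, Finset.sum_apply, Pi.smul_apply, smul_eq_mul, tr_mono,
    Pi.zero_apply]
  rw [Finset.sum_eq_single x]
  · simp
  · intro b _ hb
    rw [if_neg (Ne.symm hb), mul_zero]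
  · intro h; exact absurd (Finset.mem_univ _) h

/-- the tuple `(X^{a_i})`. -/
noncomputable def xi (a : Fin s → ℕ) : PS s C := fun i => PowerSeries.X ^ a i

/-- shift. -/
noncomputable def shift (a : Fin s → ℕ) : PS s C →ₗ[C] PS s C where
  toFun f i := PowerSeries.mk fun n => PowerSeries.coeff (n + a i) (f i)
  map_add' f g := by ext i n; simp
  map_smul' c f := by ext i n; simp

/-- low order coefficients. -/
noncomputable def low (a : Fin s → ℕ) : PS s C →ₗ[C] ((Σ i, Fin (a i)) → C) where
  toFun f x := PowerSeries.coeff x.2 (f x.1)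
  map_add' f g := by ext x; simp
  map_smul' c f := by ext x; simp

theorem xi_mul_apply (a : Fin s → ℕ) (g : PS s C) (i : Fin s) (n : ℕ) :
    PowerSeries.coeff n ((xi a * g : PS s C) i) = if a i ≤ n then PowerSeries.coeff (n - a i) (g i) else 0 := by
  rw [Pi.mul_apply, xi, PowerSeries.coeff_X_pow_mul']

theorem low_xi_mul (a : Fin s → ℕ) (g : PS s C) : low a (xi a * g) = 0 := by
  ext x
  change PowerSeries.coeff x.2 ((xi a * g : PS s C) x.1) = 0
  rw [xi_mul_apply, if_neg (not_le.2 x.2.2)]

theorem shift_xi_mul (a : Fin s → ℕ) (g : PS s C) : shift a (xi a * g) = g := by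
  ext i n
  change PowerSeries.coeff n (PowerSeries.mk fun n => PowerSeries.coeff (n + a i) ((xi a * g : PS s C) i)) = _
  rw [PowerSeries.coeff_mk, xi_mul_apply, if_pos (Nat.le_add_left _ _), Nat.add_sub_cancel]

theorem eq_xi_mul_of_low {a : Fin s → ℕ} {f : PS s C} (h : low a f = 0) :
    f = xi a * shift a f := by
  ext i n
  rw [xi_mul_apply]
  split_ifs with hn
  · change _ = PowerSeries.coeff (n - a i) (PowerSeries.mk fun n => PowerSeries.coeff (n + a i) (f i))
    rw [PowerSeries.coeff_mk, Nat.sub_add_cancel hn]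
  · exact congrFun h ⟨i, ⟨n, not_le.1 hn⟩⟩

theorem xi_mul_cancel {a : Fin s → ℕ} {f g : PS s C} (h : xi a * f = xi a * g) : f = g := by
  rw [← shift_xi_mul a f, h, shift_xi_mul]

variable {k : Type u} [CommRing k] [Algebra k C]

/-- coefficientwise base change. -/
noncomputable def mapP {k : Type*} [CommRing k] {C : Type*} [CommRing C] (y : k →+* C) :
    PS s k →+* PS s C where
  toFun f i := PowerSeries.map y (f i)
  map_one' := by ext i; simp
  map_mul' f g := by ext i; simp
  map_zero' := by ext i; simp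
  map_add' f g := by ext i; simp

theorem mapP_apply {k : Type*} [CommRing k] {C : Type*} [CommRing C] (y : k →+* C) (f : PS s k)
    (i : Fin s) : mapP y f i = PowerSeries.map y (f i) := rfl

theorem mapP_comp {k : Type*} [CommRing k] {C : Type*} [CommRing C] {C' : Type*} [CommRing C']
    (y : k →+* C) (z : C →+* C') (f : PS s k) : mapP z (mapP y f) = mapP (z.comp y) f := by
  ext i n
  simp [mapP_apply]

theorem mapP_smul {k : Type*} [CommRing k] {C : Type*} [CommRing C] (y : k →+* C) (c : k)
    (f : PS s k) : mapP y (c • f) = y c • mapP y f := by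
  ext i n
  simp [mapP_apply]

theorem tr_mapP {k : Type*} [CommRing k] {C : Type*} [CommRing C] (y : k →+* C) (f : PS s k) :
    tr e (mapP y f) = fun x => y (tr e f x) := by
  ext x
  simp [tr_apply, mapP_apply]

theorem mapP_xi {k : Type*} [CommRing k] {C : Type*} [CommRing C] (y : k →+* C) (a : Fin s → ℕ) :
    mapP y (xi a : PS s k) = xi a := by
  ext i n
  simp [mapP_apply, xi]

theorem mapP_mono {k : Type*} [CommRing k] {C : Type*} [CommRing C] (y : k →+* C) (x : E s e) :
    mapP y (mono e x : PS s k) = mono e x := by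
  funext i
  rw [mapP_apply, mono, mono]
  by_cases h : i = (ofLex x).1
  · subst h
    simp
  · rw [Pi.single_eq_of_ne h, Pi.single_eq_of_ne h, map_zero]

/-- the matrix of multiplication by a tuple on truncated tuples. -/
noncomputable def mulM (f : PS s C) : Matrix (E s e) (E s e) C := fun x y => tr e (f * mono e y) x

theorem dvd_mul {f g : PS s C} {n : ℕ} (h : ∀ i, PowerSeries.X ^ n ∣ g i) (i : Fin s) :
    PowerSeries.X ^ n ∣ (f * g : PS s C) i := Dvd.dvd.mul_left (h i) _

theorem tr_mul (f g : PS s C) : tr e (f * g) = mulM e f *ᵥ tr e g := by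
  have h1 : tr e (f * (g - ∑ y, tr e g y • mono e y)) = 0 :=
    (tr_eq_zero_iff e).2 (dvd_mul (dvd_sub_sum_mono e g))
  rw [mul_sub, map_sub, sub_eq_zero, Finset.mul_sum, map_sum] at h1
  rw [h1]
  ext x
  rw [Finset.sum_apply, mulVec, dotProduct]
  refine Finset.sum_congr rfl fun y _ => ?_
  rw [mul_smul_comm, map_smul, Pi.smul_apply, smul_eq_mul, mulM, mul_comm]

theorem bcM_mulM (f : PS s k) :
    Dat.bcM C (mulM e f) = mulM e (mapP (algebraMap k C) f) := by
  ext x y
  change algebraMap k C (tr e (f * mono e y) x) = tr e (mapP (algebraMap k C) f * mono e y) x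
  rw [← mapP_mono e (algebraMap k C) y, ← map_mul, tr_mapP]

end PS

open PS

section fam

variable {s : ℕ} (e : ℕ) {C : Type w} [CommRing C] (a : Fin s → ℕ)

/-- the tuples `ξ^a g` with `tr g ∈ M`. -/
def JJ (M : Submodule C (E s e → C)) : Submodule C (PS s C) where
  carrier := {f | ∃ g, f = xi a * g ∧ tr e g ∈ M}
  zero_mem' := ⟨0, by simp, by simp⟩
  add_mem' := by
    rintro _ _ ⟨g, rfl, hg⟩ ⟨g', rfl, hg'⟩
    exact ⟨g + g', by rw [mul_add], by rw [map_add]; exact M.add_mem hg hg'⟩
  smul_mem' := by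
    rintro c _ ⟨g, rfl, hg⟩
    exact ⟨c • g, by rw [mul_smul_comm], by rw [map_smul]; exact M.smul_mem c hg⟩

theorem mem_JJ {M : Submodule C (E s e → C)} {f : PS s C} :
    f ∈ JJ e a M ↔ ∃ g, f = xi a * g ∧ tr e g ∈ M := Iff.rfl

theorem xi_mul_mem_JJ {M : Submodule C (E s e → C)} {g : PS s C} :
    xi a * g ∈ JJ e a M ↔ tr e g ∈ M := by
  constructor
  · rintro ⟨g', h, hg'⟩
    rwa [xi_mul_cancel h]
  · intro h
    exact ⟨g, rfl, h⟩

variable (P : Finset (E s e)) (φ : E s e → E s e → C)

/-- the map with kernel `JJ a (Mod P φ)`. -/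
noncomputable def theta : PS s C →ₗ[C] ((Σ i, Fin (a i)) → C) × ({q // q ∉ P} → C) :=
  (low a).prod ((res P φ) ∘ₗ (tr e) ∘ₗ (shift a))

theorem mem_ker_theta {f : PS s C} : f ∈ LinearMap.ker (theta e a P φ) ↔ f ∈ JJ e a (Mod P φ) := by
  rw [LinearMap.mem_ker, theta, LinearMap.prod_apply, Prod.ext_iff, mem_JJ]
  constructor
  · rintro ⟨h1, h2⟩
    exact ⟨shift a f, eq_xi_mul_of_low h1, h2⟩
  · rintro ⟨g, rfl, hg⟩
    refine ⟨low_xi_mul a g, ?_⟩
    change res P φ (tr e (shift a (xi a * g))) = 0
    rw [shift_xi_mul]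
    exact hg

theorem theta_surjective : Function.Surjective (theta e a P φ) := by
  rintro ⟨x, y⟩
  obtain ⟨v, hv⟩ := res_surjective P φ y
  refine ⟨fun i => PowerSeries.mk fun n => if h : n < a i then x ⟨i, ⟨n, h⟩⟩ else
    PowerSeries.coeff (n - a i) (lft e v i), ?_⟩
  refine Prod.ext ?_ ?_
  · ext z
    change PowerSeries.coeff (z.2 : ℕ) (PowerSeries.mk fun n => if h : n < a z.1 then x ⟨z.1, ⟨n, h⟩⟩ else
      PowerSeries.coeff (n - a z.1) (lft e v z.1)) = x z
    rw [PowerSeries.coeff_mk, dif_pos z.2.2]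
  · change res P φ (tr e (shift a fun i => PowerSeries.mk fun n => if h : n < a i then x ⟨i, ⟨n, h⟩⟩
      else PowerSeries.coeff (n - a i) (lft e v i))) = y
    have h1 : (shift a fun i => PowerSeries.mk fun n => if h : n < a i then x ⟨i, ⟨n, h⟩⟩
      else PowerSeries.coeff (n - a i) (lft e v i)) = lft e v := by
      ext i n
      change PowerSeries.coeff n (PowerSeries.mk fun m => PowerSeries.coeff (m + a i)
        (PowerSeries.mk fun n => if h : n < a i then x ⟨i, ⟨n, h⟩⟩
      else PowerSeries.coeff (n - a i) (lft e v i))) = _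
      rw [PowerSeries.coeff_mk, PowerSeries.coeff_mk, dif_neg (by omega), Nat.add_sub_cancel]
    rw [h1, tr_lft, hv]

end fam

end K537.HZ
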