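import Groth.Agent.HilbD.K221.FldPt
import Groth.Agent.HilbZeta.K842.K0Fam

/-!
# Punctual Hilbert schemes and families of ideals supported at a point

`f : X ⟶ Spec k` separated, `j : Spec A ⟶ X` open over `k`, `𝔪` a maximal ideal of `A`, `x₀` the
corresponding point of `X`, `(H, Z)` universal for `Hilb^d_{X/k}`.  A finite family of ideals `J i` of
`R i ⊗ A` (finite locally free quotient of degree `d`, containing a power of `𝔪`) which
parametrises every ideal of `K ⊗ A` of colength `d` containing a power of `𝔪` exactly once gives a bijection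
on field valued points with the punctual Hilbert scheme at `x₀`.
-/

set_option autoImplicit false
set_option backward.isDefEq.respectTransparency false
universe u v

open CategoryTheory CategoryTheory.Limits AlgebraicGeometry TensorProduct

namespace K537.Geo

open Groth.Agent.Picfga.HilbPull Groth.Agent.Picfga.HilbTriple Groth.Agent.Picfga.SecGraph
  Groth.Agent.Picfga.HilbRep K221.AffPt K221.FldPt

/-- a morphism from a reduced scheme with range in a closed subscheme factors. -/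
theorem exists_lift_closed {Z W T : Scheme.{u}} (i : Z ⟶ W) [IsClosedImmersion i] (t : T ⟶ W)
    [IsReduced T] (h : ∀ x : T, t x ∈ Set.range i) : ∃ l : T ⟶ Z, l ≫ i = t := by
  have h1 : Surjective (pullback.snd i t) := by
    refine ⟨fun x => ?_⟩
    obtain ⟨z, hz⟩ := h x
    obtain ⟨w, -, hw⟩ := Scheme.Pullback.exists_preimage_pullback (f := i) (g := t) z x hz
    exact ⟨w, hw⟩
  have h2 : IsIso (pullback.snd i t) := isIso_of_isClosedImmersion_of_surjective _
  refine ⟨inv (pullback.snd i t) ≫ pullback.fst i t, ?_⟩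
  rw [Category.assoc, pullback.condition, IsIso.inv_hom_id_assoc]

variable {k : Type u} [Field k] {X : Scheme.{u}} {f : X ⟶ Spec (CommRingCat.of k)} {d : ℕ}
  {H : Over (Spec (CommRingCat.of k))} {Z : HilbD.Obj f d H}

/-- support conditions are compatible with base change. -/
theorem supp_iff (S : Set X) {T' : Over (Spec (CommRingCat.of k))} (y : T' ⟶ H) (p : T'.left) :
    (∀ z : Z.1.subscheme, pi f Z.1 z = y.left p → qq f Z.1 z ∈ S) ↔
      ∀ z, pi f (pullObj f y Z).1 z = p → qq f (pullObj f y Z).1 z ∈ S := by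
  obtain ⟨m, hm, hm'⟩ := exists_isPullback_of_pull_eq f y Z.1 (pullObj f y Z).1 rfl
  constructor
  · intro h z hz
    rw [← hm', Scheme.Hom.comp_apply]
    apply h
    rw [← Scheme.Hom.comp_apply, hm.w, Scheme.Hom.comp_apply, hz]
  · intro h z hz
    obtain ⟨z', hz1, hz2⟩ := Scheme.exists_preimage_of_isPullback hm z p hz
    rw [← hz1, ← Scheme.Hom.comp_apply, hm']
    exact h z' hz2

variable {A : Type u} [CommRing A] [Algebra k A] (j : Spec (CommRingCat.of A) ⟶ X)
  (hj : j ≫ f = Spec.map (CommRingCat.ofHom (algebraMap k A))) [IsOpenImmersion j] [IsSeparated f]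
  (hZ : HilbD.IsUniversal f d H Z)

/-- the points of a finite algebra all lie over `𝔪` iff a power of `𝔪` acts by zero. -/
theorem forall_comap_iff {Q : Type*} [CommRing Q] [IsNoetherianRing Q] (χ : A →+* Q) (𝔪 : Ideal A)
    [h𝔪 : 𝔪.IsMaximal] :
    (∀ p : PrimeSpectrum Q, p.asIdeal.comap χ = 𝔪) ↔ ∃ n, ∀ r ∈ 𝔪 ^ n, χ r = 0 := by
  constructor
  · intro h
    have h1 : 𝔪.map χ ≤ nilradical Q := by
      rw [Ideal.map_le_iff_le_comap]
      intro r hr
      rw [Ideal.mem_comap, nilradical_eq_sInf, Ideal.mem_sInf]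
      intro p hp
      have h2 := h ⟨p, hp⟩
      rw [← h2] at hr
      exact hr
    obtain ⟨n, hn⟩ := IsNoetherianRing.isNilpotent_nilradical Q
    refine ⟨n, fun r hr => ?_⟩
    have h2 : χ r ∈ (𝔪.map χ) ^ n := by
      rw [← Ideal.map_pow]
      exact Ideal.mem_map_of_mem _ hr
    have h3 := Ideal.pow_right_mono h1 n h2
    rw [hn] at h3
    exact h3
  · rintro ⟨n, hn⟩ p
    refine (h𝔪.eq_of_le (p.2.comap χ).ne_top fun r hr => ?_).symm
    rw [Ideal.mem_comap]
    have h1 : χ r ^ n = 0 := by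
      rw [← map_pow]
      exact hn _ (Ideal.pow_mem_pow hr n)
    exact p.2.mem_of_pow_mem n (h1 ▸ p.asIdeal.zero_mem)

variable {j hj} in
/-- the support of the point defined by an ideal. -/
theorem supp_pt_iff (𝔪 : Ideal A) [h𝔪 : 𝔪.IsMaximal] {K : Type u} [Field K] [Algebra k K]
    (J : Ideal (K ⊗[k] A)) (hJ : Mor2.IsFinLocFreeOfDeg d (zpi J)) (x₀ : X)
    (hx₀ : x₀ = j ⟨𝔪, h𝔪.isPrime⟩) :
    (∀ z : Z.1.subscheme, pi f Z.1 z = (pt j hj hZ J hJ).left (o K) → qq f Z.1 z = x₀) ↔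
      ∃ n, ∀ r ∈ 𝔪 ^ n, (1 : K) ⊗ₜ[k] r ∈ J := by
  have hQ : Module.Finite K (K ⊗[k] A ⧸ J) := ((isFinLocFreeOfDeg_zpi_iff J).1 hJ).1
  have hN : IsNoetherianRing (K ⊗[k] A ⧸ J) := isNoetherian_of_isNoetherianRing_of_finite K _ |>
    isNoetherian_of_tower K
  refine (supp_iff (S := {x₀}) (pt j hj hZ J hJ) (o K)).trans ?_
  rw [pullObj_pt]
  have h1 : (∃ n, ∀ r ∈ 𝔪 ^ n, (1 : K) ⊗ₜ[k] r ∈ J) ↔
      ∃ n, ∀ r ∈ 𝔪 ^ n, ((Ideal.Quotient.mk J).comp (incR K)) r = 0 := by
    constructor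
    · rintro ⟨n, hn⟩
      exact ⟨n, fun r hr => Ideal.Quotient.eq_zero_iff_mem.2 (hn r hr)⟩
    · rintro ⟨n, hn⟩
      exact ⟨n, fun r hr => Ideal.Quotient.eq_zero_iff_mem.1 (hn r hr)⟩
  rw [h1, ← forall_comap_iff]
  have hfin : IsFinite (zpi J) := hJ.1.1
  have := isClosedImmersion_ziota f j hj J
  obtain ⟨e, he, h⟩ := exists_iso_ker_subscheme (ziota f j hj J)
  have h2 : qq f (ob f j hj J hJ).1 = (e ≫ Spec.map (CommRingCat.ofHom
      ((Ideal.Quotient.mk J).comp (incR K)))) ≫ j := by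
    change (ziota f j hj J).ker.subschemeι ≫ _ = _
    rw [← h, Category.assoc, ziota_fst, Category.assoc]
  constructor
  · intro hh p
    obtain ⟨z, rfl⟩ : ∃ z, e z = p := e.homeomorph.surjective p
    have h3 := hh z (eq_o _)
    rw [Set.mem_singleton_iff, h2, Scheme.Hom.comp_apply, hx₀] at h3
    have h4 := j.isOpenEmbedding.injective h3
    rw [Scheme.Hom.comp_apply] at h4
    exact congrArg PrimeSpectrum.asIdeal h4
  · intro hh z _
    rw [Set.mem_singleton_iff, h2, Scheme.Hom.comp_apply, hx₀]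
    congr 1
    exact PrimeSpectrum.ext (hh (e z))

section fam

variable {σ : Type*} (R : σ → Type u) [∀ i, CommRing (R i)] [∀ i, Algebra k (R i)]
  (J : ∀ i, Ideal (R i ⊗[k] A)) (hJ : ∀ i, Mor2.IsFinLocFreeOfDeg d (zpi (J i)))
  (𝔪 : Ideal A) [h𝔪 : 𝔪.IsMaximal] (x₀ : X) (hx₀ : x₀ = j ⟨𝔪, h𝔪.isPrime⟩)

/-- The family of ideals parametrises all ideals of colength `d` supported at `𝔪`, over every field. -/
def Param (d : ℕ) : Prop :=
  (∀ i, ∃ n, ∀ r ∈ 𝔪 ^ n, (1 : R i) ⊗ₜ[k] r ∈ J i) ∧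
  ∀ (K : Type u) [Field K] [Algebra k K] (I : Ideal (K ⊗[k] A)),
    Module.Finite K (K ⊗[k] A ⧸ I) → Module.finrank K (K ⊗[k] A ⧸ I) = d →
    (∃ n, ∀ r ∈ 𝔪 ^ n, (1 : K) ⊗ₜ[k] r ∈ I) →
    ∃! q : Σ i, (R i →ₐ[k] K), (J q.1).map (bm A q.2) = I

variable {R J 𝔪 x₀}

include hx₀ in
/-- a `K`-valued point of the family is supported at `x₀`. -/
theorem supp_fam (hp : ∀ i, ∃ n, ∀ r ∈ 𝔪 ^ n, (1 : R i) ⊗ₜ[k] r ∈ J i) (i : σ) (K : Type u) [Field K]
    (x : Spec (CommRingCat.of K) ⟶ Spec (CommRingCat.of (R i))) (p : Spec (CommRingCat.of K)) :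
    ∀ z : Z.1.subscheme, pi f Z.1 z = (x ≫ (pt j hj hZ (J i) (hJ i)).left) p → qq f Z.1 z = x₀ := by
  let φ₀ : R i →+* K := (Spec.preimage x).hom
  have hφ₀ : Spec.map (CommRingCat.ofHom φ₀) = x := Spec.map_preimage x
  let _ : Algebra k K := (φ₀.comp (algebraMap k (R i))).toAlgebra
  let φ : R i →ₐ[k] K := { φ₀ with commutes' := fun _ => rfl }
  have hJ' := isFinLocFreeOfDeg_map f j hj φ (J i) (hJ i)
  have h1 := tm_pt j hj hZ φ (J i) (hJ i) hJ'
  have h2 : x ≫ (pt j hj hZ (J i) (hJ i)).left = (pt j hj hZ ((J i).map (bm A φ)) hJ').left := by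
    rw [← h1, Over.comp_left]
    rw [← hφ₀]
    rfl
  rw [h2, eq_o p]
  refine (supp_pt_iff (hj := hj) hZ 𝔪 _ hJ' x₀ hx₀).2 ?_
  obtain ⟨n, hn⟩ := hp i
  refine ⟨n, fun r hr => ?_⟩
  have h3 := Ideal.mem_map_of_mem (bm A φ) (hn r hr)
  have h4 : (bm A φ) ((1 : R i) ⊗ₜ[k] r) = (1 : K) ⊗ₜ[k] r := by simp [bm]
  rwa [h4] at h3

include hx₀ in
/-- **Every field valued point of the punctual Hilbert scheme lifts uniquely to the family.** -/
theorem existsUnique_lift (hP : Param (k := k) R J 𝔪 d) (K : Type u) [Field K]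
    (y : Spec (CommRingCat.of K) ⟶ H.left) (p : Spec (CommRingCat.of K))
    (hy : ∀ z : Z.1.subscheme, pi f Z.1 z = y p → qq f Z.1 z = x₀) :
    ∃! q : Σ i, (Spec (CommRingCat.of K) ⟶ Spec (CommRingCat.of (R i))),
      q.2 ≫ (pt j hj hZ (J q.1) (hJ q.1)).left = y := by
  obtain ⟨hp, hP⟩ := hP
  let κ : k →+* K := (Spec.preimage (y ≫ H.hom)).hom
  have hκ : Spec.map (CommRingCat.ofHom κ) = y ≫ H.hom := Spec.map_preimage _
  let _ : Algebra k K := κ.toAlgebra
  let y' : T k K ⟶ H := Over.homMk y hκ.symm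
  have hy' : ∀ z : Z.1.subscheme, pi f Z.1 z = y'.left (o K) → qq f Z.1 z = x₀ := by
    rw [← eq_o p]; exact hy
  obtain ⟨I, hI, hyI⟩ := exists_eq_pt j hj hZ y' (fun z => by
    have h1 := (supp_iff (S := {x₀}) y' (o K)).1 hy' z (eq_o _)
    rw [Set.mem_singleton_iff] at h1
    rw [h1, hx₀]
    exact ⟨_, rfl⟩)
  have hI' := (isFinLocFreeOfDeg_zpi_iff I).1 hI
  have hn : ∃ n, ∀ r ∈ 𝔪 ^ n, (1 : K) ⊗ₜ[k] r ∈ I := by
    rw [hyI] at hy'
    exact (supp_pt_iff (hj := hj) hZ 𝔪 I hI x₀ hx₀).1 hy'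
  obtain ⟨⟨i, φ⟩, hq, huniq⟩ := hP K I hI'.1 hI'.2 hn
  have key : ∀ (i' : σ) (ψ : R i' →ₐ[k] K),
      (tm k (R i') K ψ ≫ pt j hj hZ (J i') (hJ i') = y') ↔ (J i').map (bm A ψ) = I := by
    intro i' ψ
    have hJ' := isFinLocFreeOfDeg_map f j hj ψ (J i') (hJ i')
    rw [tm_pt j hj hZ ψ (J i') (hJ i') hJ', hyI]
    constructor
    · intro h
      apply ob_injective f j hj (hJ := hJ') (hJ' := hI)
      rw [← pullObj_pt j hj hZ, ← pullObj_pt j hj hZ, h]
    · intro h
      subst h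
      rfl
  refine ⟨⟨i, Spec.map (CommRingCat.ofHom φ.toRingHom)⟩, ?_, ?_⟩
  · have h1 := (key i φ).2 hq
    exact congrArg (fun g => g.left) h1
  · rintro ⟨i', x'⟩ hx'
    simp only at hx'
    let φ₀ : R i' →+* K := (Spec.preimage x').hom
    have hφ₀ : Spec.map (CommRingCat.ofHom φ₀) = x' := Spec.map_preimage x'
    have hcomm : φ₀.comp (algebraMap k (R i')) = algebraMap k K := by
      have h1 : x' ≫ Spec.map (CommRingCat.ofHom (algebraMap k (R i'))) =
          Spec.map (CommRingCat.ofHom κ) := by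
        rw [hκ, ← hx', Category.assoc]
        congr 1
        exact (Over.w (pt j hj hZ (J i') (hJ i'))).symm
      rw [← hφ₀, ← Spec.map_comp] at h1
      exact congrArg CommRingCat.Hom.hom (Spec.map_injective h1)
    let ψ : R i' →ₐ[k] K := { φ₀ with commutes' := fun c => congrArg (fun g => g c) hcomm }
    have h2 : tm k (R i') K ψ ≫ pt j hj hZ (J i') (hJ i') = y' := by
      apply Over.OverMorphism.ext
      rw [Over.comp_left]
      change Spec.map (CommRingCat.ofHom φ₀) ≫ _ = y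
      rw [hφ₀]
      exact hx'
    have h3 := huniq ⟨i', ψ⟩ ((key i' ψ).1 h2)
    obtain ⟨rfl, h4⟩ := Sigma.mk.inj h3
    have h5 : ψ = φ := eq_of_heq h4
    rw [← h5, ← hφ₀]

variable [LocallyOfFiniteType H.hom] [QuasiCompact H.hom] {HP : Scheme.{u}} (ι : HP ⟶ H.left)
  [IsClosedImmersion ι]
  (hι : Set.range ι = {h | ∀ z : Z.1.subscheme,
    (Z.1.subschemeι ≫ pullback.snd f H.hom) z = h →
      (Z.1.subschemeι ≫ pullback.fst f H.hom) z = x₀})

open K842.K0Fam K842.K0Basic in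
include hx₀ hι in
theorem cl_eq_sum [Fintype σ] [∀ i, Algebra.FiniteType k (R i)] (hJ : ∀ i, Mor2.IsFinLocFreeOfDeg d (zpi (J i)))
    (hZ : HilbD.IsUniversal f d H Z) (hj : j ≫ f = Spec.map (CommRingCat.ofHom (algebraMap k A)))
    (hP : Param (k := k) R J 𝔪 d) [∀ i, LocallyOfFiniteType
      (Spec.map (CommRingCat.ofHom (algebraMap k (R i))))] :
    K0Var.cl (ι ≫ H.hom) = ∑ i, K0Var.cl (Spec.map (CommRingCat.ofHom (algebraMap k (R i)))) := by
  classical
  have hw : ∀ i, (pt j hj hZ (J i) (hJ i)).left ≫ H.hom =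
      Spec.map (CommRingCat.ofHom (algebraMap k (R i))) := fun i =>
    Over.w (pt j hj hZ (J i) (hJ i))
  have h1 : ∀ i, LocallyOfFiniteType (pt j hj hZ (J i) (hJ i)).left := fun i => by
    have : LocallyOfFiniteType ((pt j hj hZ (J i) (hJ i)).left ≫ H.hom) := by
      rw [hw]; infer_instance
    exact locallyOfFiniteType_of_comp _ H.hom
  have h2 : ∀ i, QuasiCompact (pt j hj hZ (J i) (hJ i)).left := fun i => by
    have h3 : IsNoetherian (Spec (CommRingCat.of (R i))) :=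
      isNoetherian_of_ft (Spec.map (CommRingCat.ofHom (algebraMap k (R i))))
    have h4 : TopologicalSpace.NoetherianSpace (Spec (CommRingCat.of (R i))) := inferInstance
    exact ⟨fun V _ _ => h4.isCompact _⟩
  have hqc : ∀ i, QuasiCompact (Spec.map (CommRingCat.ofHom (algebraMap k (R i)))) :=
    fun i => inferInstance
  have key := sum_cl_eq_of_points (H := H.left) (P := HP)
    (fun i => (pt j hj hZ (J i) (hJ i)).left) ι H.hom (InjPts.of_mono ι) ?_ ?_
  · rw [← key]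
    exact Finset.sum_congr rfl fun i _ => cl_congr_hom (hw i)
  · intro K hK i x
    let _ : Field K := hK.toField
    have hred : IsReduced (Spec K) := by
      have : _root_.IsReduced K := inferInstance
      infer_instance
    refine exists_lift_closed ι (x ≫ (pt j hj hZ (J i) (hJ i)).left) fun p => ?_
    rw [hι]
    exact supp_fam j hj hZ hJ hx₀ hP.1 i K x p
  · intro K hK y
    let _ : Field K := hK.toField
    obtain ⟨p⟩ : Nonempty (Spec K) := inferInstance
    refine existsUnique_lift j hj hZ hJ hx₀ hP K (y ≫ ι) p ?_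
    have h3 : (y ≫ ι) p ∈ Set.range ι := by
      rw [Scheme.Hom.comp_apply]
      exact ⟨_, rfl⟩
    rw [hι] at h3
    exact h3

end fam

end K537.Geo
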