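import Groth.Agent.HilbZeta.K537.CellFam
import Mathlib.RingTheory.PowerSeries.Basic
import Mathlib.RingTheory.PowerSeries.Trunc
import Mathlib.Algebra.Order.Antidiag.Finsupp

/-!
# The generating function of the cells
-/

set_option autoImplicit false
set_option linter.unusedSectionVars false
universe u v

open CategoryTheory CategoryTheory.Limits AlgebraicGeometry TensorProduct

namespace K537.HZ

section EvZero

variable {R : Type v} [CommRing R]

/-- power series with finitely many non zero coefficients. -/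
def EvZero (F : PowerSeries R) : Prop := ∃ N, ∀ n, N ≤ n → PowerSeries.coeff n F = 0

theorem EvZero.exists_polynomial {F : PowerSeries R} (h : EvZero F) :
    ∃ P : Polynomial R, F = (P : PowerSeries R) := by
  obtain ⟨N, hN⟩ := h
  refine ⟨PowerSeries.trunc N F, ?_⟩
  ext n
  rw [Polynomial.coeff_coe, PowerSeries.coeff_trunc]
  split_ifs with h
  · rfl
  · exact hN n (not_lt.1 h)

theorem evZero_coe (P : Polynomial R) : EvZero (P : PowerSeries R) :=
  ⟨P.natDegree + 1, fun n hn => by
    rw [Polynomial.coeff_coe]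
    exact Polynomial.coeff_eq_zero_of_natDegree_lt (by omega)⟩

theorem EvZero.add {F G : PowerSeries R} (hF : EvZero F) (hG : EvZero G) : EvZero (F + G) := by
  obtain ⟨P, rfl⟩ := hF.exists_polynomial
  obtain ⟨Q, rfl⟩ := hG.exists_polynomial
  rw [← Polynomial.coe_add]
  exact evZero_coe _

theorem EvZero.mul {F G : PowerSeries R} (hF : EvZero F) (hG : EvZero G) : EvZero (F * G) := by
  obtain ⟨P, rfl⟩ := hF.exists_polynomial
  obtain ⟨Q, rfl⟩ := hG.exists_polynomial
  rw [← Polynomial.coe_mul]
  exact evZero_coe _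

theorem EvZero.sub {F G : PowerSeries R} (hF : EvZero F) (hG : EvZero G) : EvZero (F - G) := by
  obtain ⟨N, hN⟩ := hF
  obtain ⟨M, hM⟩ := hG
  exact ⟨max N M, fun n hn => by rw [map_sub, hN n (by omega), hM n (by omega), sub_zero]⟩

theorem evZero_zero : EvZero (0 : PowerSeries R) := ⟨0, fun n _ => by simp⟩

theorem evZero_one : EvZero (1 : PowerSeries R) := by
  rw [← Polynomial.coe_one]; exact evZero_coe _

theorem evZero_X : EvZero (PowerSeries.X : PowerSeries R) := by
  rw [← Polynomial.coe_X]; exact evZero_coe _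

theorem evZero_C (c : R) : EvZero (PowerSeries.C c) := by
  rw [← Polynomial.coe_C]; exact evZero_coe _

theorem EvZero.pow {F : PowerSeries R} (hF : EvZero F) (n : ℕ) : EvZero (F ^ n) := by
  induction n with
  | zero => rw [pow_zero]; exact evZero_one
  | succ n ih => rw [pow_succ]; exact ih.mul hF

theorem evZero_sum {ι : Type*} (s : Finset ι) {F : ι → PowerSeries R} (h : ∀ i ∈ s, EvZero (F i)) :
    EvZero (∑ i ∈ s, F i) := by
  classical
  induction s using Finset.induction_on with
  | empty => rw [Finset.sum_empty]; exact evZero_zero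
  | insert a s ha ih =>
    rw [Finset.sum_insert ha]
    exact (h a (Finset.mem_insert_self a s)).add (ih fun i hi => h i (Finset.mem_insert_of_mem hi))

theorem evZero_prod {ι : Type*} (s : Finset ι) {F : ι → PowerSeries R} (h : ∀ i ∈ s, EvZero (F i)) :
    EvZero (∏ i ∈ s, F i) := by
  classical
  induction s using Finset.induction_on with
  | empty => rw [Finset.prod_empty]; exact evZero_one
  | insert a s ha ih =>
    rw [Finset.prod_insert ha]
    exact (h a (Finset.mem_insert_self a s)).mul (ih fun i hi => h i (Finset.mem_insert_of_mem hi))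

/-- `F (1 - X)^s` is a polynomial. -/
def IsRat (s : ℕ) (F : PowerSeries R) : Prop := EvZero (F * (1 - PowerSeries.X) ^ s)

theorem IsRat.shift_one {s : ℕ} {u : ℕ → R} (h : IsRat s (PowerSeries.mk u)) :
    IsRat s (PowerSeries.mk fun n => u (n + 1)) := by
  have h1 : (PowerSeries.mk u) = PowerSeries.C (u 0) +
      PowerSeries.X * PowerSeries.mk fun n => u (n + 1) := by
    ext n
    cases n with
    | zero => simp
    | succ n => simp [PowerSeries.coeff_succ_X_mul]
  have h2 : EvZero (PowerSeries.X * ((PowerSeries.mk fun n => u (n + 1)) *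
      (1 - PowerSeries.X) ^ s)) := by
    have h3 : PowerSeries.X * ((PowerSeries.mk fun n => u (n + 1)) * (1 - PowerSeries.X) ^ s) =
        (PowerSeries.mk u) * (1 - PowerSeries.X) ^ s -
          PowerSeries.C (u 0) * (1 - PowerSeries.X) ^ s := by
      rw [h1]; ring
    rw [h3]
    exact EvZero.sub h ((evZero_C _).mul ((evZero_one.sub evZero_X).pow s))
  obtain ⟨N, hN⟩ := h2
  refine ⟨N, fun n hn => ?_⟩
  have := hN (n + 1) (by omega)
  rwa [PowerSeries.coeff_succ_X_mul] at this

theorem IsRat.shift {s : ℕ} {u : ℕ → R} (h : IsRat s (PowerSeries.mk u)) (b : ℕ) :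
    IsRat s (PowerSeries.mk fun n => u (n + b)) := by
  induction b with
  | zero => exact h
  | succ b ih =>
    have := ih.shift_one
    refine Eq.subst (motive := IsRat s) ?_ this
    ext n
    simp only [PowerSeries.coeff_mk]
    congr 1
    omega

theorem IsRat.shift_down {s : ℕ} {g : ℕ → R} (h : IsRat s (PowerSeries.mk g)) (b c : ℕ) :
    IsRat s (PowerSeries.mk fun n => if c ≤ n + b then g (n + b - c) else 0) := by
  have h1 : IsRat s (PowerSeries.mk fun n => if c ≤ n then g (n - c) else 0) := by
    have h2 : (PowerSeries.mk fun n => if c ≤ n then g (n - c) else 0) =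
        PowerSeries.X ^ c * PowerSeries.mk g := by
      ext n
      rw [PowerSeries.coeff_X_pow_mul', PowerSeries.coeff_mk, PowerSeries.coeff_mk]
    rw [h2, IsRat, mul_assoc]
    exact (evZero_X.pow c).mul h
  exact h1.shift b

/-- the one variable series. -/
theorem evZero_h (e j : ℕ) : EvZero ((PowerSeries.mk fun n => if min n e = j then (1 : R) else 0) *
    (1 - PowerSeries.X)) := by
  refine ⟨e + 1, fun n hn => ?_⟩
  rw [mul_sub, mul_one, map_sub]
  obtain ⟨m, rfl⟩ : ∃ m, n = m + 1 := ⟨n - 1, by omega⟩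
  rw [PowerSeries.coeff_succ_mul_X, PowerSeries.coeff_mk, PowerSeries.coeff_mk,
    min_eq_right (by omega : e ≤ m + 1), min_eq_right (by omega : e ≤ m), sub_self]

theorem isRat_g {s : ℕ} (e : ℕ) (Q : (Fin s → ℕ) → R) :
    IsRat s (PowerSeries.mk fun n => ∑ l ∈ Finset.finsuppAntidiag (Finset.univ : Finset (Fin s)) n,
      Q fun i => min (l i) e) := by
  classical
  let h : ℕ → PowerSeries R := fun j => PowerSeries.mk fun n => if min n e = j then (1 : R) else 0
  have h1 : (PowerSeries.mk fun n => ∑ l ∈ Finset.finsuppAntidiag (Finset.univ : Finset (Fin s)) n,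
      Q fun i => min (l i) e) =
      ∑ b : Fin s → Fin (e + 1), PowerSeries.C (Q fun i => (b i : ℕ)) * ∏ i, h (b i) := by
    ext n
    rw [PowerSeries.coeff_mk, map_sum]
    simp only [PowerSeries.coeff_C_mul, PowerSeries.coeff_prod, Finset.mul_sum]
    rw [Finset.sum_comm]
    refine Finset.sum_congr rfl fun l _ => ?_
    rw [Finset.sum_eq_single (fun i => (⟨min (l i) e, by omega⟩ : Fin (e + 1)))]
    · simp only [h, PowerSeries.coeff_mk, if_true, Finset.prod_const_one, mul_one]
    · intro b _ hb
      obtain ⟨i, hi⟩ : ∃ i, min (l i) e ≠ b i := by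
        by_contra hcon
        push Not at hcon
        exact hb (funext fun i => Fin.ext (hcon i).symm)
      rw [Finset.prod_eq_zero (Finset.mem_univ i), mul_zero]
      simp only [h, PowerSeries.coeff_mk, if_neg hi]
    · intro hh; exact absurd (Finset.mem_univ _) hh
  rw [IsRat, h1, Finset.sum_mul]
  refine evZero_sum _ fun b _ => ?_
  have h2 : PowerSeries.C (Q fun i => (b i : ℕ)) * (∏ i, h (b i)) * (1 - PowerSeries.X) ^ s =
      PowerSeries.C (Q fun i => (b i : ℕ)) * ∏ i, (h (b i) * (1 - PowerSeries.X)) := by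
    rw [Finset.prod_mul_distrib, Finset.prod_const, Finset.card_univ, Fintype.card_fin, mul_assoc]
  rw [h2]
  exact (evZero_C _).mul (evZero_prod _ fun i _ => evZero_h e (b i))

end EvZero

section idx

variable (s e δ d : ℕ)

/-- the finite set of vectors `a` for given `P`. -/
def TT (q : Finset (E s e) × (Fin s → E s e)) : Finset (Fin s →₀ ℕ) :=
  if s * e ≤ d + (δ + q.1.card) then
    Finset.finsuppAntidiag (Finset.univ : Finset (Fin s)) (d + (δ + q.1.card) - s * e) else ∅

theorem mem_TT {q : Finset (E s e) × (Fin s → E s e)} {l : Fin s →₀ ℕ} :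
    l ∈ TT s e δ d q ↔ ∑ i, l i + s * e = d + δ + q.1.card := by
  rw [TT]
  split_ifs with h
  · rw [Finset.mem_finsuppAntidiag]
    constructor
    · rintro ⟨h1, -⟩
      have h2 : ∑ i, l i = d + (δ + q.1.card) - s * e := h1
      rw [h2]
      omega
    · intro h1
      refine ⟨?_, Finset.subset_univ _⟩
      change ∑ i, l i = d + (δ + q.1.card) - s * e
      omega
  · simp only [Finset.notMem_empty, false_iff]
    omega

/-- the index set as a sigma type. -/
noncomputable def idxEquiv : Idx s e δ d ≃ Σ q : Finset (E s e) × (Fin s → E s e), TT s e δ d q where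
  toFun i := ⟨(i.1.2.1, i.1.2.2), ⟨Finsupp.equivFunOnFinite.symm i.1.1, (mem_TT s e δ d).2 i.2⟩⟩
  invFun x := ⟨(x.2.1, x.1.1, x.1.2), (mem_TT s e δ d).1 x.2.2⟩
  left_inv i := by
    apply Subtype.ext
    simp
  right_inv x := by
    obtain ⟨⟨P, τ⟩, l, hl⟩ := x
    simp only
    congr 1
    apply Subtype.ext
    ext; rfl

noncomputable instance : Fintype (Idx s e δ d) := Fintype.ofEquiv _ (idxEquiv s e δ d).symm

theorem sum_idx {R : Type v} [CommRing R] (F : (Fin s → ℕ) → Finset (E s e) × (Fin s → E s e) → R) :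
    ∑ i : Idx s e δ d, F i.1.1 i.1.2 =
      ∑ q : Finset (E s e) × (Fin s → E s e), ∑ l ∈ TT s e δ d q, F l q := by
  rw [Fintype.sum_equiv (idxEquiv s e δ d) (fun i : Idx s e δ d => F i.1.1 i.1.2)
    (fun x => F x.2.1 x.1) (fun i => rfl)]
  rw [← Finset.univ_sigma_univ, Finset.sum_sigma]
  refine Finset.sum_congr rfl fun q _ => ?_
  exact Finset.sum_coe_sort (TT s e δ d q) (fun l => F l q)

theorem isRat_idx {R : Type v} [CommRing R] (F : (Fin s → ℕ) → Finset (E s e) × (Fin s → E s e) → R) :
    IsRat s (PowerSeries.mk fun d => ∑ i : Idx s e δ d, F (fun j => min (i.1.1 j) e) i.1.2) := by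
  have h1 : (PowerSeries.mk fun d => ∑ i : Idx s e δ d, F (fun j => min (i.1.1 j) e) i.1.2) =
      ∑ q : Finset (E s e) × (Fin s → E s e), PowerSeries.mk fun d =>
        if s * e ≤ d + (δ + q.1.card) then
          ∑ l ∈ Finset.finsuppAntidiag (Finset.univ : Finset (Fin s)) (d + (δ + q.1.card) - s * e),
            F (fun j => min (l j) e) q else 0 := by
    ext d
    rw [PowerSeries.coeff_mk, map_sum, sum_idx s e δ d (fun a q => F (fun j => min (a j) e) q)]
    refine Finset.sum_congr rfl fun q _ => ?_
    rw [PowerSeries.coeff_mk, TT]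
    split_ifs
    · rfl
    · rw [Finset.sum_empty]
  rw [IsRat, h1, Finset.sum_mul]
  exact evZero_sum _ fun q _ => (isRat_g e fun a => F a q).shift_down (δ + q.1.card) (s * e)

end idx

end K537.HZ
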