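import Groth.Agent.HilbZeta.K537.AffData
import Groth.Agent.HilbZeta.K537.Zeta
import Groth.Prelude.Def_Brnch

/-!
# Rationality of the punctual Hilbert zeta function at a point of a reduced curve
-/

set_option autoImplicit false
set_option linter.unusedSectionVars false
universe u

open CategoryTheory CategoryTheory.Limits AlgebraicGeometry TensorProduct

namespace K537.HZ

open PS K221.AffPt

/-- a chart around a closed point together with the parametrisation of the ideals supported there. -/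
theorem exists_affChart (k : Type u) [Field k] [IsAlgClosed k]
    (X : Scheme.{u}) (f : X ⟶ Spec (CommRingCat.of k)) [LocallyOfFiniteType f] [IsReduced X]
    (x₀ : X) (hx₀ : IsClosed ({x₀} : Set X)) (hdim : ringKrullDim (X.presheaf.stalk x₀) = 1)
    (s : ℕ) (hs : Brnch.numBranchesAt X x₀ = s) :
    ∃ (A : Type u) (_ : CommRing A) (_ : Algebra k A) (j : Spec (CommRingCat.of A) ⟶ X)
      (_ : IsOpenImmersion j) (_ : j ≫ f = Spec.map (CommRingCat.ofHom (algebraMap k A)))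
      (𝔪 : Ideal A) (h𝔪 : 𝔪.IsMaximal) (_ : x₀ = j ⟨𝔪, h𝔪.isPrime⟩)
      (e δ : ℕ) (_ : NeZero e) (ψ : A →ₐ[k] PS s k) (L : Matrix (Fin δ) (E s e) k), Hyp ψ e L ∧
      (∀ n : ℕ, ∃ N : ℕ, ∀ r : A, (∀ i, PowerSeries.X ^ N ∣ ψ r i) → r ∈ 𝔪 ^ n) ∧
      ∀ r ∈ 𝔪, ∀ i, PowerSeries.X ∣ ψ r i := by
  obtain ⟨U, hU, hxU, -⟩ := exists_isAffineOpen_mem_and_subset (X := X) (x := x₀) (U := ⊤) trivial
  let κ : CommRingCat.of k ⟶ Γ(X, U) := Spec.preimage (hU.fromSpec ≫ f)
  have hκ : Spec.map κ = hU.fromSpec ≫ f := Spec.map_preimage _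
  let _ : Algebra k Γ(X, U) := κ.hom.toAlgebra
  have hft : Algebra.FiniteType k Γ(X, U) := by
    have h1 : LocallyOfFiniteType (Spec.map κ) := by rw [hκ]; infer_instance
    exact (HasRingHomProperty.Spec_iff (P := @LocallyOfFiniteType)).1 h1
  let 𝔪 : Ideal Γ(X, U) := (hU.primeIdealOf ⟨x₀, hxU⟩).asIdeal
  have hx : hU.fromSpec (hU.primeIdealOf ⟨x₀, hxU⟩) = x₀ := hU.fromSpec_primeIdealOf ⟨x₀, hxU⟩
  have h𝔪 : 𝔪.IsMaximal := by
    have h1 : IsClosed ({hU.primeIdealOf ⟨x₀, hxU⟩} : Set (Spec Γ(X, U))) := by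
      have h2 : ({hU.primeIdealOf ⟨x₀, hxU⟩} : Set (Spec Γ(X, U))) = hU.fromSpec ⁻¹' {x₀} := by
        ext y
        simp only [Set.mem_singleton_iff, Set.mem_preimage]
        constructor
        · rintro rfl; exact hx
        · intro h
          exact hU.fromSpec.isOpenEmbedding.injective (h.trans hx.symm)
      rw [h2]
      exact hx₀.preimage hU.fromSpec.continuous
    exact (PrimeSpectrum.isClosed_singleton_iff_isMaximal _).1 h1
  let _ : Algebra Γ(X, U) (X.presheaf.stalk x₀) :=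
    TopCat.Presheaf.algebra_section_stalk X.presheaf ⟨x₀, hxU⟩
  have hloc : IsLocalization.AtPrime (X.presheaf.stalk x₀) 𝔪 := hU.isLocalization_stalk ⟨x₀, hxU⟩
  obtain ⟨e, δ, he, ψ, L, H⟩ := exists_affData k Γ(X, U) 𝔪 (X.presheaf.stalk x₀) hdim s hs
  exact ⟨Γ(X, U), inferInstance, inferInstance, hU.fromSpec, inferInstance, hκ.symm, 𝔪, h𝔪, hx.symm,
    e, δ, he, ψ, L, H⟩

instance loft_dat {k : Type u} [Field k] {E F I : Type} [Fintype E] [LinearOrder E] [Finite F] [Fintype I]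
    (D : Dat k E F I) (P : Finset E) (τ : I → E) :
    LocallyOfFiniteType (Spec.map (CommRingCat.ofHom (algebraMap k (D.R P τ)))) := by
  refine (HasRingHomProperty.Spec_iff (P := @LocallyOfFiniteType)).2 ?_
  have h : Algebra.FiniteType k (D.R P τ) := inferInstance
  exact RingHom.finiteType_algebraMap.2 h

/-- the class of a cell. -/
noncomputable def clD {k : Type u} [Field k] {E F I : Type} [Fintype E] [LinearOrder E] [Finite F] [Fintype I]
    (D : Dat k E F I) (q : Finset E × (I → E)) : K0Var.K (Spec (CommRingCat.of k)) :=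
  K0Var.cl (Spec.map (CommRingCat.ofHom (algebraMap k (D.R q.1 q.2))))

theorem exists_polynomial_punctual (k : Type u) [Field k] [IsAlgClosed k]
    (X : Scheme.{u}) (f : X ⟶ Spec (CommRingCat.of k)) [LocallyOfFiniteType f] [QuasiCompact f] [IsSeparated f] [IsReduced X]
    (x₀ : X) (hx₀ : IsClosed ({x₀} : Set X)) (hdim : ringKrullDim (X.presheaf.stalk x₀) = 1)
    (s : ℕ) (hs : Brnch.numBranchesAt X x₀ = s)
    (H : ℕ → Over (Spec (CommRingCat.of k)))
    (Z : ∀ d, HilbD.Obj f d (H d)) (hZ : ∀ d, HilbD.IsUniversal f d (H d) (Z d))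
    [∀ d, LocallyOfFiniteType (H d).hom] [∀ d, QuasiCompact (H d).hom]
    (HP : ℕ → Scheme.{u}) (ι : ∀ d, HP d ⟶ (H d).left) [∀ d, IsClosedImmersion (ι d)]
    (hι : ∀ d, Set.range (ι d) = {h | ∀ z : (Z d).1.subscheme,
      ((Z d).1.subschemeι ≫ pullback.snd f (H d).hom) z = h →
        ((Z d).1.subschemeι ≫ pullback.fst f (H d).hom) z = x₀}) :
    ∃ P : Polynomial (K0Var.K (Spec (CommRingCat.of k))),
      PowerSeries.mk (fun d => K0Var.cl (ι d ≫ (H d).hom)) * (1 - PowerSeries.X) ^ s =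
        (P : PowerSeries (K0Var.K (Spec (CommRingCat.of k)))) := by
  obtain ⟨A, _, _, j, hjo, hj, 𝔪, h𝔪, hx, e, δ, _, ψ, L, hH, hsep, hm⟩ :=
    exists_affChart k X f x₀ hx₀ hdim s hs
  have h1 : ∀ d, K0Var.cl (ι d ≫ (H d).hom) = ∑ i : Idx s e δ d,
      clD (dat ψ e (fun j => min (i.1.1 j) e) L) i.1.2 := by
    intro d
    rw [Geo.cl_eq_sum (j := j) hx (ι d) (hι d) (isFinLocFree_JI hH) (hZ d) hj
      (param_JI hH 𝔪 hm hsep d)]
    refine Finset.sum_congr rfl fun i _ => ?_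
    exact congrArg (fun D => clD D i.1.2) (dat_min ψ e i.1.1 L)
  have h2 : (PowerSeries.mk fun d => K0Var.cl (ι d ≫ (H d).hom)) =
      PowerSeries.mk fun d => ∑ i : Idx s e δ d, clD (dat ψ e (fun j => min (i.1.1 j) e) L) i.1.2 := by
    ext d
    rw [PowerSeries.coeff_mk, PowerSeries.coeff_mk, h1]
  rw [h2]
  exact (isRat_idx s e δ (fun a q => clD (dat ψ e a L) q)).exists_polynomial

end K537.HZ
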