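import Groth.Agent.HilbD.K221.FldPt

/-!
# Dimension of a scheme from a family with the same field-valued points
-/

set_option autoImplicit false
set_option backward.isDefEq.respectTransparency false
universe u v

open CategoryTheory CategoryTheory.Limits AlgebraicGeometry

namespace K537.PtsDim

open Groth.Agent.Sga4h.GeoDim K221.FldPt

variable {k : Type u} [Field k]

theorem le_dim_iff {Y : Scheme.{u}} (g : Y ⟶ Spec (CommRingCat.of k)) [LocallyOfFiniteType g] (n : ℕ) :
    (n : WithBot ℕ∞) ≤ topologicalKrullDim Y ↔ ∃ y : Y, (n : Cardinal.{u}) ≤ trdegAt g y := by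
  constructor
  · intro h
    by_contra hcon
    push Not at hcon
    rcases n with _ | n
    · have hE : IsEmpty Y := ⟨fun y => by
        have := hcon y
        simp at this⟩
      have h1 : topologicalKrullDim Y = ⊥ := by
        have : IsEmpty (TopologicalSpace.IrreducibleCloseds Y) := ⟨fun Z => hE.elim Z.isIrreducible.nonempty.some⟩
        exact Order.krullDim_eq_bot
      rw [h1] at h
      simp at h
    · have h1 : topologicalKrullDim Y ≤ n := topologicalKrullDim_le g (N := n) fun x => by
        obtain ⟨m, hm⟩ := exists_nat_trdegAt g x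
        have h2 := hcon x
        rw [hm] at h2 ⊢
        have h3 : m < n + 1 := by exact_mod_cast h2
        exact_mod_cast Nat.lt_succ_iff.1 h3
      have h2 := h.trans h1
      have h3 : n + 1 ≤ n := by exact_mod_cast h2
      omega
  · rintro ⟨y, hy⟩
    exact le_topologicalKrullDim g hy

/-- **Dimension of a scheme from a family with the same field-valued points.** -/
theorem le_dim_iff_exists {ι : Type v} {H P : Scheme.{u}} {X : ι → Scheme.{u}} (f : ∀ i, X i ⟶ H) (j : P ⟶ H)
    (g : H ⟶ Spec (CommRingCat.of k))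
    [LocallyOfFiniteType g] [IsImmersion j] [∀ i, LocallyOfFiniteType (f i)]
    (h1 : ∀ (K : Type u) (_ : Field K) (i : ι) (x : Spec (CommRingCat.of K) ⟶ X i),
      ∃ y : Spec (CommRingCat.of K) ⟶ P, y ≫ j = x ≫ f i)
    (h2 : ∀ (K : Type u) (_ : Field K) (y : Spec (CommRingCat.of K) ⟶ P),
      ∃! x : Σ i, (Spec (CommRingCat.of K) ⟶ X i), x.2 ≫ f x.1 = y ≫ j) (n : ℕ) :
    (n : WithBot ℕ∞) ≤ topologicalKrullDim P ↔ ∃ i, (n : WithBot ℕ∞) ≤ topologicalKrullDim (X i) := by
  rw [le_dim_iff (j ≫ g) n]
  constructor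
  · rintro ⟨p, hp⟩
    obtain ⟨⟨i, x⟩, hx, -⟩ := h2 (P.residueField p) inferInstance (P.fromSpecResidueField p)
    refine ⟨i, (le_dim_iff (f i ≫ g) n).2 ⟨x (o _), ?_⟩⟩
    have h3 : f i (x (o _)) = j p := by
      rw [← Scheme.Hom.comp_apply, hx, Scheme.Hom.comp_apply]
      congr 1
      exact Scheme.fromSpecResidueField_apply _ _
    rw [trdegAt_comp, h3]
    rw [trdegAt_comp, trdegAt_eq_zero_of_isPreimmersion j, add_zero] at hp
    exact hp.trans le_self_add
  · rintro ⟨i, hi⟩
    obtain ⟨q, hq⟩ := (le_dim_iff (f i ≫ g) n).1 hi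
    obtain ⟨y, hy⟩ := h1 ((X i).residueField q) inferInstance i ((X i).fromSpecResidueField q)
    let p : P := y (IsLocalRing.closedPoint ((X i).residueField q))
    let ψ : P.residueField p ⟶ (X i).residueField q :=
      (Scheme.SpecToEquivOfField ((X i).residueField q) P y).2
    have hψ : Spec.map ψ ≫ P.fromSpecResidueField p = y :=
      (Scheme.SpecToEquivOfField ((X i).residueField q) P).left_inv y
    obtain ⟨⟨i', x'⟩, hx', -⟩ := h2 (P.residueField p) inferInstance (P.fromSpecResidueField p)
    simp only at hx'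
    obtain ⟨⟨i₀, x₀⟩, -, huniq⟩ := h2 ((X i).residueField q) inferInstance y
    have e1 := huniq ⟨i, (X i).fromSpecResidueField q⟩ hy.symm
    have e2 := huniq ⟨i', Spec.map ψ ≫ x'⟩ (by
      simp only
      rw [Category.assoc, hx', ← Category.assoc, hψ])
    have e3 := e1.trans e2.symm
    obtain rfl : i = i' := congrArg Sigma.fst e3
    have e4 : (X i).fromSpecResidueField q = Spec.map ψ ≫ x' := eq_of_heq (Sigma.mk.inj e3).2
    have hψ0 : trdegAt (Spec.map ψ) (o _) = 0 := by
      have t1 := trdegAt_comp (Spec.map ψ) x' (o ((X i).residueField q))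
      rw [← e4, trdegAt_eq_zero_of_isPreimmersion] at t1
      exact (le_antisymm (le_add_self.trans t1.ge) zero_le)
    have hT : trdegAt (f i) q = 0 := by
      have t1 := trdegAt_comp ((X i).fromSpecResidueField q) (f i) (o _)
      rw [← hy, ← hψ, Category.assoc, trdegAt_comp, hψ0, add_zero,
        trdegAt_eq_zero_of_isPreimmersion (P.fromSpecResidueField p ≫ j)] at t1
      have t2 : (X i).fromSpecResidueField q (o _) = q := Scheme.fromSpecResidueField_apply _ _
      rw [t2] at t1
      exact (le_antisymm (le_self_add.trans t1.ge) zero_le)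
    have hfp : f i q = j p := by
      have t2 : (X i).fromSpecResidueField q (IsLocalRing.closedPoint _) = q :=
        Scheme.fromSpecResidueField_apply _ _
      rw [← t2, ← Scheme.Hom.comp_apply, ← hy, Scheme.Hom.comp_apply]
      rfl
    refine ⟨p, ?_⟩
    rw [trdegAt_comp, hT, add_zero, hfp] at hq
    rw [trdegAt_comp]
    exact hq.trans le_self_add

end K537.PtsDim
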