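import Groth.Agent.HilbZeta.K537.Glue
import Groth.Agent.HilbZeta.K537.PtsDim

/-!
# The dimension of the punctual Hilbert schemes of a curve is eventually constant
-/

set_option autoImplicit false
set_option linter.unusedSectionVars false
universe u

open CategoryTheory CategoryTheory.Limits AlgebraicGeometry TensorProduct

namespace K537.HZ

open PS K221.AffPt K421 K421.NormCl

theorem exists_numBranches (A : Type u) [CommRing A] [IsLocalRing A] [IsReduced A]
    (hN : CAlg.IsNagata A) : ∃ s : ℕ, Brnch.numBranches A = s := by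
  have hNoeth : IsNoetherianRing A := hN.1
  have hmin : (minimalPrimes A).Finite := minimalPrimes.finite_of_isNoetherianRing A
  let B := CAlg2.red A
  let ε : A ≃ₐ[ℤ] B :=
    AlgEquiv.ofBijective (Ideal.Quotient.mkₐ ℤ (nilradical A))
    ⟨by
      intro x y h
      have h' := Ideal.Quotient.eq.1 h
      rwa [nilradical_eq_zero A, Ideal.zero_eq_bot, Ideal.mem_bot, sub_eq_zero] at h',
      Ideal.Quotient.mk_surjective⟩
  have hlocB : IsLocalRing B := ε.toRingEquiv.isLocalRing
  have hredB : IsReduced B := isReduced_of_injective ε.symm.toRingHom ε.symm.injective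
  have hNB : CAlg.IsNagata B := Groth.Agent.Ega4B.NagBasic.isNagata_of_ringEquiv ε.toRingEquiv hN
  have hNoethB : IsNoetherianRing B := hNB.1
  have hfin : Module.Finite B (NormCl.Cl B) := NormCl.finite_cl B hNB
  have hfinM : Finite (MaximalSpectrum (Cl B)) := DeltaBranch.finite_maximalSpectrum B (Cl B)
  refine ⟨Nat.card (MaximalSpectrum (Cl B)), ?_⟩
  rw [Brnch.numBranches, if_pos hmin]
  exact ENat.card_eq_coe_natCard _

theorem exists_numBranchesAt (k : Type u) [Field k]
    (X : Scheme.{u}) (f : X ⟶ Spec (CommRingCat.of k)) [LocallyOfFiniteType f] [IsReduced X]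
    (x₀ : X) : ∃ s : ℕ, Brnch.numBranchesAt X x₀ = s := by
  obtain ⟨U, hU, hxU, -⟩ := exists_isAffineOpen_mem_and_subset (X := X) (x := x₀) (U := ⊤) trivial
  let κ : CommRingCat.of k ⟶ Γ(X, U) := Spec.preimage (hU.fromSpec ≫ f)
  have hκ : Spec.map κ = hU.fromSpec ≫ f := Spec.map_preimage _
  let _ : Algebra k Γ(X, U) := κ.hom.toAlgebra
  have hft : Algebra.FiniteType k Γ(X, U) := by
    have h1 : LocallyOfFiniteType (Spec.map κ) := by rw [hκ]; infer_instance
    exact (HasRingHomProperty.Spec_iff (P := @LocallyOfFiniteType)).1 h1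
  let _ : Algebra Γ(X, U) (X.presheaf.stalk x₀) :=
    TopCat.Presheaf.algebra_section_stalk X.presheaf ⟨x₀, hxU⟩
  have hloc : IsLocalization.AtPrime (X.presheaf.stalk x₀) (hU.primeIdealOf ⟨x₀, hxU⟩).asIdeal :=
    hU.isLocalization_stalk ⟨x₀, hxU⟩
  have hNA : CAlg.IsNagata Γ(X, U) :=
    Groth.Agent.Ega4B.NagFinal.isNagata_of_finiteType (isNagata_field k)
  have hNO : CAlg.IsNagata (X.presheaf.stalk x₀) :=
    Groth.Agent.Ega4B.NagBasic.isNagata_localization hNA
      (hU.primeIdealOf ⟨x₀, hxU⟩).asIdeal.primeCompl (X.presheaf.stalk x₀)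
  exact exists_numBranches _ hNO

/-- the truncated vectors which occur in large degree. -/
theorem exists_bound (s e δ : ℕ) : ∃ d₀ : ℕ, ∀ d, d₀ ≤ d → ∀ (b : Fin s → ℕ) (c : ℕ), c ≤ s * e →
    ((∃ a : Fin s → ℕ, (∀ i, min (a i) e = b i) ∧ ∑ i, a i + s * e = d + δ + c) ↔
      ((∀ i, b i ≤ e) ∧ ∃ i, b i = e)) := by
  refine ⟨2 * (s * e) + e + 1, fun d hd b c hc => ?_⟩
  constructor
  · rintro ⟨a, ha, hsum⟩
    refine ⟨fun i => by rw [← ha]; exact min_le_right _ _, ?_⟩
    by_contra hcon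
    push Not at hcon
    have h1 : ∀ i, a i ≤ e := by
      intro i
      by_contra h
      exact hcon i (by rw [← ha, min_eq_right]; omega)
    have h2 : ∑ i, a i ≤ s * e := by
      refine (Finset.sum_le_card_nsmul _ _ e fun i _ => h1 i).trans ?_
      simp
    omega
  · rintro ⟨hb, i, hi⟩
    have h2 : ∑ j ∈ Finset.univ.erase i, b j ≤ s * e := by
      refine (Finset.sum_le_sum_of_subset (Finset.erase_subset _ _)).trans ?_
      refine (Finset.sum_le_card_nsmul _ _ e fun i _ => hb i).trans ?_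
      simp
    refine ⟨Function.update b i (d + δ + c - s * e - ∑ j ∈ Finset.univ.erase i, b j), ?_, ?_⟩
    · intro j
      rcases eq_or_ne j i with rfl | hj
      · rw [Function.update_self, hi, min_eq_right]
        omega
      · rw [Function.update_of_ne hj]
        exact min_eq_left (hb j)
    · rw [← Finset.add_sum_erase _ _ (Finset.mem_univ i), Function.update_self]
      have h3 : ∑ j ∈ Finset.univ.erase i, Function.update b i
          (d + δ + c - s * e - ∑ j ∈ Finset.univ.erase i, b j) j =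
          ∑ j ∈ Finset.univ.erase i, b j := by
        refine Finset.sum_congr rfl fun j hj => ?_
        rw [Function.update_of_ne (Finset.ne_of_mem_erase hj)]
      rw [h3]
      omega

theorem card_le (s e : ℕ) (P : Finset (E s e)) : P.card ≤ s * e := by
  refine (Finset.card_le_univ P).trans ?_
  have : Fintype.card (E s e) = Fintype.card (Fin s × Fin e) := Fintype.card_congr ofLex
  rw [this, Fintype.card_prod, Fintype.card_fin, Fintype.card_fin]

theorem eq_of_forall {x y : WithBot ℕ∞} (h : ∀ n : ℕ, (n : WithBot ℕ∞) ≤ x ↔ (n : WithBot ℕ∞) ≤ y) :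
    x = y := by
  have key : ∀ {x y : WithBot ℕ∞}, (∀ n : ℕ, (n : WithBot ℕ∞) ≤ x → (n : WithBot ℕ∞) ≤ y) → x ≤ y := by
    intro x y h
    induction x with
    | bot => exact bot_le
    | coe x =>
      induction y with
      | bot =>
        have := h 0 (by exact_mod_cast (zero_le : (0 : ℕ∞) ≤ x))
        simp at this
      | coe y =>
        rw [WithBot.coe_le_coe]
        refine ENat.forall_natCast_le_iff_le.1 fun n hn => ?_
        exact_mod_cast h n (by exact_mod_cast hn)
  exact le_antisymm (key fun n => (h n).1) (key fun n => (h n).2)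

theorem exists_const (k : Type u) [Field k] [IsAlgClosed k]
    (X : Scheme.{u}) (f : X ⟶ Spec (CommRingCat.of k)) [LocallyOfFiniteType f] [QuasiCompact f] [IsSeparated f] [IsReduced X]
    (x₀ : X) (hx₀ : IsClosed ({x₀} : Set X)) (hdim : ringKrullDim (X.presheaf.stalk x₀) = 1)
    (H : ℕ → Over (Spec (CommRingCat.of k)))
    (Z : ∀ d, HilbD.Obj f d (H d)) (hZ : ∀ d, HilbD.IsUniversal f d (H d) (Z d))
    [∀ d, LocallyOfFiniteType (H d).hom] [∀ d, QuasiCompact (H d).hom]
    (HP : ℕ → Scheme.{u}) (ι : ∀ d, HP d ⟶ (H d).left) [∀ d, IsClosedImmersion (ι d)]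
    (hι : ∀ d, Set.range (ι d) = {h | ∀ z : (Z d).1.subscheme,
      ((Z d).1.subschemeι ≫ pullback.snd f (H d).hom) z = h →
        ((Z d).1.subschemeι ≫ pullback.fst f (H d).hom) z = x₀}) :
    ∃ d₀ : ℕ, ∀ d : ℕ, d₀ ≤ d →
      topologicalKrullDim (HP d) = topologicalKrullDim (HP d₀) := by
  obtain ⟨s, hs⟩ := exists_numBranchesAt k X f x₀
  obtain ⟨A, _, _, j, hjo, hj, 𝔪, h𝔪, hx, e, δ, _, ψ, L, hH, hsep, hm⟩ :=
    exists_affChart k X f x₀ hx₀ hdim s hs
  have key : ∀ d (n : ℕ), (n : WithBot ℕ∞) ≤ topologicalKrullDim (HP d) ↔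
      ∃ i : Idx s e δ d, (n : WithBot ℕ∞) ≤
        topologicalKrullDim (Spec (CommRingCat.of (RR ψ e L i))) := by
    intro d n
    have hP := param_JI hH 𝔪 hm hsep d
    have hw : ∀ i : Idx s e δ d, (K221.FldPt.pt j hj (hZ d) (JI ψ e L i) (isFinLocFree_JI hH i)).left ≫
        (H d).hom = Spec.map (CommRingCat.ofHom (algebraMap k (RR ψ e L i))) := fun i =>
      Over.w (K221.FldPt.pt j hj (hZ d) (JI ψ e L i) (isFinLocFree_JI hH i))
    have h1 : ∀ i : Idx s e δ d, LocallyOfFiniteType
        (K221.FldPt.pt j hj (hZ d) (JI ψ e L i) (isFinLocFree_JI hH i)).left := fun i => by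
      have : LocallyOfFiniteType
          ((K221.FldPt.pt j hj (hZ d) (JI ψ e L i) (isFinLocFree_JI hH i)).left ≫ (H d).hom) := by
        rw [hw]; infer_instance
      exact locallyOfFiniteType_of_comp _ (H d).hom
    refine PtsDim.le_dim_iff_exists
      (X := fun i : Idx s e δ d => Spec (CommRingCat.of (RR ψ e L i)))
      (fun i => (K221.FldPt.pt j hj (hZ d) (JI ψ e L i) (isFinLocFree_JI hH i)).left)
      (ι d) (H d).hom ?_ ?_ n
    · intro K _ i x
      have hred : IsReduced (Spec (CommRingCat.of K)) := by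
        have : _root_.IsReduced K := inferInstance
        infer_instance
      refine Geo.exists_lift_closed (ι d) (x ≫ _) fun p => ?_
      rw [hι]
      exact Geo.supp_fam j hj (hZ d) (isFinLocFree_JI hH) hx hP.1 i K x p
    · intro K _ y
      obtain ⟨p⟩ : Nonempty (Spec (CommRingCat.of K)) := inferInstance
      refine Geo.existsUnique_lift j hj (hZ d) (isFinLocFree_JI hH) hx hP K (y ≫ ι d) p ?_
      have h3 : (y ≫ ι d) p ∈ Set.range (ι d) := by
        rw [Scheme.Hom.comp_apply]
        exact ⟨_, rfl⟩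
      rw [hι] at h3
      exact h3
  obtain ⟨d₀, hd₀⟩ := exists_bound s e δ
  have key2 : ∀ d, d₀ ≤ d → ∀ (n : ℕ), (n : WithBot ℕ∞) ≤ topologicalKrullDim (HP d) ↔
      ∃ (b : Fin s → ℕ) (q : Finset (E s e) × (Fin s → E s e)), ((∀ i, b i ≤ e) ∧ ∃ i, b i = e) ∧
        (n : WithBot ℕ∞) ≤ topologicalKrullDim (Spec (CommRingCat.of ((dat ψ e b L).R q.1 q.2))) := by
    intro d hd n
    rw [key]
    have hmin : ∀ i : Idx s e δ d, topologicalKrullDim (Spec (CommRingCat.of (RR ψ e L i))) =
        topologicalKrullDim (Spec (CommRingCat.of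
          ((dat ψ e (fun j => min (i.1.1 j) e) L).R i.1.2.1 i.1.2.2))) := fun i =>
      congrArg (fun D => topologicalKrullDim (Spec (CommRingCat.of (Dat.R D i.1.2.1 i.1.2.2))))
        (dat_min ψ e i.1.1 L)
    constructor
    · rintro ⟨i, hi⟩
      refine ⟨fun j => min (i.1.1 j) e, i.1.2, ?_, ?_⟩
      · exact (hd₀ d hd _ _ (card_le s e i.1.2.1)).1 ⟨i.1.1, fun _ => rfl, i.2⟩
      · rwa [hmin i] at hi
    · rintro ⟨b, q, hb, hn⟩
      obtain ⟨a, ha, hsum⟩ := (hd₀ d hd b _ (card_le s e q.1)).2 hb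
      refine ⟨(⟨(a, q), hsum⟩ : Idx s e δ d), le_of_le_of_eq ?_ (hmin _).symm⟩
      obtain rfl : (fun j => min (a j) e) = b := funext ha
      exact hn
  refine ⟨d₀, fun d hd => ?_⟩
  have h1 : ∀ n : ℕ, (n : WithBot ℕ∞) ≤ topologicalKrullDim (HP d) ↔
      (n : WithBot ℕ∞) ≤ topologicalKrullDim (HP d₀) := fun n =>
    (key2 d hd n).trans (key2 d₀ le_rfl n).symm
  exact eq_of_forall h1

end K537.HZ
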